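import Cfsg.Agent.Mrg.Omega.Transv.Basic

section


/-!
# Minimal parabolics with transvections: centres and axes

`Pt T M v0 ψ0`: `v0` is the fixed vector and `ψ0` the fixed functional of the Sylow subgroup. An axis has only one
centre, a centre has only one axis, and `φ_d(a_e) = φ_e(a_d)`.
-/

set_option autoImplicit false

namespace Cfsg.Agent.Omega.Transv

open Subgroup

variable {P : Type*} [Group P] {V : Type*} [AddCommGroup V] [Module (ZMod 2) V] [DistribMulAction P V]

/-- the centre of a transvection -/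
noncomputable def ctr (V : Type*) [AddCommGroup V] [Module (ZMod 2) V] [DistribMulAction P V] (d : P) : V := by
  classical
  exact if h : ∃ (a : V) (φ : Du V), Tv d a φ then h.choose else 0

/-- the axis of a transvection -/
noncomputable def fn (V : Type*) [AddCommGroup V] [Module (ZMod 2) V] [DistribMulAction P V] (d : P) : Du V := by
  classical
  exact if h : ∃ (a : V) (φ : Du V), Tv d a φ then h.choose_spec.choose else 0

theorem tv_of_mem {d : P} (h : d ∈ DD P V) : Tv d (ctr V d) (fn V d) := by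
  have h' : ∃ (a : V) (φ : Du V), Tv d a φ := h
  rw [ctr, fn, dif_pos h', dif_pos h']
  exact h'.choose_spec.choose_spec

theorem Tv.mem {d : P} {a : V} {φ : Du V} (h : Tv d a φ) : d ∈ DD P V := ⟨a, φ, h⟩

theorem Tv.ctr_eq {d : P} {a : V} {φ : Du V} (h : Tv d a φ) : ctr V d = a := ((tv_of_mem h.mem).unique h).1

theorem Tv.fn_eq {d : P} {a : V} {φ : Du V} (h : Tv d a φ) : fn V d = φ := ((tv_of_mem h.mem).unique h).2

theorem ctr_conj {d : P} (h : d ∈ DD P V) (g : P) : ctr V (g * d * g⁻¹) = g • ctr V d :=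
  ((tv_of_mem h).conj g).ctr_eq

theorem fn_conj {d : P} (h : d ∈ DD P V) (g : P) : fn V (g * d * g⁻¹) = dua g (fn V d) :=
  ((tv_of_mem h).conj g).fn_eq

theorem fn_conj_apply {d : P} (h : d ∈ DD P V) (g : P) (v : V) : fn V (g * d * g⁻¹) (g • v) = fn V d v := by
  rw [fn_conj h, dua_apply, inv_smul_smul]

/-- the contragredient action -/
@[reducible] def dualAct (P V : Type*) [Group P] [AddCommGroup V] [Module (ZMod 2) V] [DistribMulAction P V] :
    DistribMulAction P (Du V) where
  smul := dua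
  one_smul φ := by
    ext v
    change φ ((1 : P)⁻¹ • v) = φ v
    rw [inv_one, one_smul]
  mul_smul g h φ := by
    ext v
    change φ ((g * h)⁻¹ • v) = φ (h⁻¹ • g⁻¹ • v)
    rw [mul_inv_rev, mul_smul]
  smul_zero g := by
    ext v
    rfl
  smul_add g φ ψ := by
    ext v
    rfl

/-- the fixed vector and the fixed functional -/
structure Pt (P V : Type*) [Group P] [AddCommGroup V] [Module (ZMod 2) V] [DistribMulAction P V]
    (T : Sylow 2 P) (M : Subgroup P) (v0 : V) (ψ0 : Du V) : Prop extends Hyp P V T M where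
  v_ne : v0 ≠ 0
  v_mem : ∀ g : P, g ∈ M ↔ g • v0 = v0
  v_uniq : ∀ v : V, (∀ t ∈ T, t • v = v) → v = 0 ∨ v = v0
  p_mem : ∀ g : P, g ∈ M ↔ ∀ v : V, ψ0 (g • v) = ψ0 v

namespace Hyp

variable {T : Sylow 2 P} {M : Subgroup P}

theorem exists_pt [Finite P] [Finite V] (hH : Hyp P V T M) : ∃ (v0 : V) (ψ0 : Du V), Pt P V T M v0 ψ0 := by
  obtain ⟨d, hd⟩ := hH.tv
  obtain ⟨g, hg⟩ := hH.exists_conj_notMem hd
  have hM : ∃ d ∈ DD P V, d ∉ M := ⟨_, mem_DD_conj hd g, hg⟩
  obtain ⟨v0, h1, h2, h3⟩ := exists_point hH.le hH.max (D := DD P V)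
    (fun N hN ⟨d, hd, hdN⟩ => hH.fix N hN (even_of_mem hH.faith hd hdN))
    (fun d hd g => mem_DD_conj hd g) (fn V) (fun d hd w => (tv_of_mem hd).fix_iff w)
    (fun d hd g w => fn_conj_apply hd g w) hM ⟨_, (tv_of_mem hd).ne⟩
  let := dualAct P V
  have : Finite (Du V) := Finite.of_injective (fun φ : Du V => (φ : V → ZMod 2)) DFunLike.coe_injective
  have hfixd : ∀ N : Subgroup P, N.Normal → (∃ d ∈ DD P V, d ∈ N) → ∀ w : Du V, (∀ n ∈ N, n • w = w) → w = 0 := by
    rintro N hN ⟨d, hd, hdN⟩ w hw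
    refine hH.fixd N hN (even_of_mem hH.faith hd hdN) w fun n hn v => ?_
    have h4 := LinearMap.congr_fun (hw n⁻¹ (N.inv_mem hn)) v
    change w (n⁻¹⁻¹ • v) = w v at h4
    rwa [inv_inv] at h4
  have hz : ∀ d ∈ DD P V, ∀ w : Du V, d • w = w ↔ LinearMap.applyₗ (ctr V d) w = 0 := by
    intro d hd w
    have ht := tv_of_mem hd
    constructor
    · intro h
      obtain ⟨v, hv⟩ := exists_one ht.nz
      have h6 := LinearMap.congr_fun h v
      change w (d⁻¹ • v) = w v at h6
      rw [ht.inv_eq hH.faith, ht.act, hv, one_smul, map_add] at h6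
      exact left_eq_add.mp h6.symm
    · intro h
      ext v
      change w (d⁻¹ • v) = w v
      have h' : w (ctr V d) = 0 := h
      rw [ht.inv_eq hH.faith, ht.act, map_add, map_smul, h', smul_zero, add_zero]
  have hcj : ∀ d ∈ DD P V, ∀ (g : P) (w : Du V),
      LinearMap.applyₗ (ctr V (g * d * g⁻¹)) (g • w) = LinearMap.applyₗ (ctr V d) w := by
    intro d hd g w
    change (dua g w) (ctr V (g * d * g⁻¹)) = w (ctr V d)
    rw [ctr_conj hd, dua_apply, inv_smul_smul]
  obtain ⟨ψ0, -, h5, -⟩ := exists_point (W := Du V) hH.le hH.max (D := DD P V) hfixd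
    (fun d hd g => mem_DD_conj hd g) (fun d => LinearMap.applyₗ (ctr V d)) hz hcj hM ⟨_, (tv_of_mem hd).nz⟩
  refine ⟨v0, ψ0, { hH with v_ne := h1, v_mem := h2, v_uniq := h3, p_mem := fun g => ?_ }⟩
  rw [h5 g]
  constructor
  · intro h v
    have h6 := LinearMap.congr_fun h (g • v)
    change ψ0 (g⁻¹ • g • v) = ψ0 (g • v) at h6
    rw [inv_smul_smul] at h6
    exact h6.symm
  · intro h
    ext v
    change ψ0 (g⁻¹ • v) = ψ0 v
    rw [← h (g⁻¹ • v), smul_inv_smul]

end Hyp

namespace Pt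

variable {T : Sylow 2 P} {M : Subgroup P} {v0 : V} {ψ0 : Du V}

/-- `d ∈ M` in terms of the axis -/
theorem mem_iff (h : Pt P V T M v0 ψ0) {d : P} {a : V} {φ : Du V} (ht : Tv d a φ) : d ∈ M ↔ φ v0 = 0 := by
  rw [h.v_mem, ht.fix_iff]

/-- `d ∈ M` in terms of the centre -/
theorem mem_iff' (h : Pt P V T M v0 ψ0) {d : P} {a : V} {φ : Du V} (ht : Tv d a φ) : d ∈ M ↔ ψ0 a = 0 := by
  rw [h.p_mem]
  constructor
  · intro h1
    obtain ⟨v, hv⟩ := exists_one ht.nz
    have h2 := h1 v
    rw [ht.act, hv, one_smul, map_add] at h2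
    exact left_eq_add.mp h2.symm
  · intro h1 v
    rw [ht.act, map_add, map_smul, h1, smul_zero, add_zero]

theorem notMem_iff (h : Pt P V T M v0 ψ0) {d : P} {a : V} {φ : Du V} (ht : Tv d a φ) : d ∉ M ↔ φ v0 = 1 := by
  rw [h.mem_iff ht]
  exact ⟨eq_one_of_ne, fun h1 h2 => one_ne (h1.symm.trans h2)⟩

theorem notMem_iff' (h : Pt P V T M v0 ψ0) {d : P} {a : V} {φ : Du V} (ht : Tv d a φ) : d ∉ M ↔ ψ0 a = 1 := by
  rw [h.mem_iff' ht]
  exact ⟨eq_one_of_ne, fun h1 h2 => one_ne (h1.symm.trans h2)⟩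

/-- an axis has only one centre -/
theorem eq_of_axis [Finite P] (h : Pt P V T M v0 ψ0) {d e : P} {a b : V} {φ : Du V} (hd : Tv d a φ)
    (he : Tv e b φ) : a = b := by
  by_contra hab
  obtain ⟨g, hg⟩ := h.toHyp.exists_conj_notMem hd.mem
  have h1 := hd.conj g
  have h2 := he.conj g
  have hab' : g • a ≠ g • b := fun h0 => hab (smul_left_cancel g h0)
  have h3 := h1.mul_axis h2 hab'
  have h4 : (dua g φ) v0 = 1 := (h.notMem_iff h1).mp hg
  have h5 := (h.notMem_iff' h1).mp ((h.notMem_iff h1).mpr h4)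
  have h6 := (h.notMem_iff' h2).mp ((h.notMem_iff h2).mpr h4)
  have h7 := (h.notMem_iff' h3).mp ((h.notMem_iff h3).mpr h4)
  rw [map_add, h5, h6] at h7
  exact one_ne (h7.symm.trans one_add_one)

/-- a centre has only one axis -/
theorem eq_of_centre [Finite P] (h : Pt P V T M v0 ψ0) {d e : P} {a : V} {φ ψ : Du V} (hd : Tv d a φ)
    (he : Tv e a ψ) : φ = ψ := by
  by_contra hab
  obtain ⟨g, hg⟩ := h.toHyp.exists_conj_notMem hd.mem
  have h1 := hd.conj g
  have h2 := he.conj g
  have hab' : dua g φ ≠ dua g ψ := by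
    intro h0
    apply hab
    ext v
    have h3 := LinearMap.congr_fun h0 (g • v)
    rwa [dua_apply, dua_apply, inv_smul_smul] at h3
  have h3 := h1.mul_centre h2 hab'
  have h4 : ψ0 (g • a) = 1 := (h.notMem_iff' h1).mp hg
  have h5 := (h.notMem_iff h1).mp ((h.notMem_iff' h1).mpr h4)
  have h6 := (h.notMem_iff h2).mp ((h.notMem_iff' h2).mpr h4)
  have h7 := (h.notMem_iff h3).mp ((h.notMem_iff' h3).mpr h4)
  rw [LinearMap.add_apply, h5, h6] at h7
  exact one_ne (h7.symm.trans one_add_one)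

theorem eq_of_ctr [Finite P] (h : Pt P V T M v0 ψ0) {d e : P} {a : V} {φ ψ : Du V} (hd : Tv d a φ)
    (he : Tv e a ψ) : d = e := by
  have h1 := h.eq_of_centre hd he
  subst h1
  exact hd.ext h.faith he

/-- the symmetry -/
theorem symm [Finite P] (h : Pt P V T M v0 ψ0) {d e : P} {a b : V} {φ ψ : Du V} (hd : Tv d a φ)
    (he : Tv e b ψ) : φ b = ψ a := by
  have key : ∀ {d e : P} {a b : V} {φ ψ : Du V}, Tv d a φ → Tv e b ψ → φ b = 1 → ψ a = 1 := by
    intro d e a b φ ψ hd he h1
    by_contra h2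
    have h3 := hd.conj_tv h.faith he
    rw [eq_zero_of_ne h2, zero_smul, add_zero, h1, one_smul] at h3
    have h4 := h.eq_of_axis he h3
    exact hd.ne (left_eq_add.mp h4)
  rcases zmod_cases (φ b) with h1 | h1
  · rcases zmod_cases (ψ a) with h2 | h2
    · rw [h1, h2]
    · exact absurd (key he hd h2) (by rw [h1]; exact fun h0 => one_ne h0.symm)
  · rw [h1, key hd he h1]

/-- orthogonal transvections commute -/
theorem comm_of_zero [Finite P] (h : Pt P V T M v0 ψ0) {d e : P} {a b : V} {φ ψ : Du V} (hd : Tv d a φ)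
    (he : Tv e b ψ) (h0 : φ b = 0) : d * e = e * d := by
  have h1 := h.symm hd he
  refine h.faith.ext fun v => ?_
  rw [mul_smul, mul_smul, he.act, hd.act, hd.act, he.act, map_add, map_add, map_smul, map_smul, h0, ← h1, h0,
    smul_zero, smul_zero, add_zero, add_zero]
  abel

/-- commuting transvections are orthogonal -/
theorem zero_of_comm [Finite P] (h : Pt P V T M v0 ψ0) {d e : P} {a b : V} {φ ψ : Du V} (hd : Tv d a φ)
    (he : Tv e b ψ) (hc : d * e = e * d) : φ b = 0 := by
  by_contra h0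
  have h1 := eq_one_of_ne h0
  have h3 := hd.conj_tv h.faith he
  have h4 : d * e * d = e := by rw [hc, mul_assoc, hd.mul_self h.faith, mul_one]
  rw [h4, h1, one_smul] at h3
  have h5 := (he.unique h3).1
  exact hd.ne (left_eq_add.mp h5)

/-- the third transvection -/
theorem third [Finite P] (h : Pt P V T M v0 ψ0) {d e : P} {a b : V} {φ ψ : Du V} (hd : Tv d a φ)
    (he : Tv e b ψ) (h1 : φ b = 1) : Tv (d * e * d) (a + b) (φ + ψ) := by
  have h3 := hd.conj_tv h.faith he
  rw [h1, one_smul, ← h.symm hd he, h1, one_smul] at h3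
  rwa [add_comm b a, add_comm ψ φ] at h3

theorem braid [Finite P] (h : Pt P V T M v0 ψ0) {d e : P} {a b : V} {φ ψ : Du V} (hd : Tv d a φ)
    (he : Tv e b ψ) (h1 : φ b = 1) : d * e * d = e * d * e := by
  have h2 := h.third hd he h1
  have h3 := h.third he hd (by rw [← h.symm hd he, h1])
  rw [add_comm b a, add_comm ψ φ] at h3
  exact h2.ext h.faith h3

end Pt

end Cfsg.Agent.Omega.Transv

end

section


/-!
# Minimal parabolics with transvections: commuting sets of transvections

`DT T` is the set of the transvections in the Sylow subgroup `T`: a commuting set of the largest size.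
-/

set_option autoImplicit false

namespace Cfsg.Agent.Omega.Transv

open Subgroup

variable {P : Type*} [Group P] {V : Type*} [AddCommGroup V] [Module (ZMod 2) V] [DistribMulAction P V]

/-- the transvections in the conjugate `gTg⁻¹` -/
def DS (V : Type*) [AddCommGroup V] [Module (ZMod 2) V] [DistribMulAction P V] (T : Sylow 2 P) (g : P) : Set P :=
  {d | d ∈ DD P V ∧ g⁻¹ * d * g ∈ T}

/-- commuting sets of transvections -/
def Com (V : Type*) [AddCommGroup V] [Module (ZMod 2) V] [DistribMulAction P V] (R : Set P) : Prop :=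
  R ⊆ DD P V ∧ ∀ d ∈ R, ∀ e ∈ R, d * e = e * d

/-- conjugation as an image -/
def cj (g : P) (R : Set P) : Set P := {x | g⁻¹ * x * g ∈ R}

theorem mem_cj {g : P} {R : Set P} {x : P} : x ∈ cj g R ↔ g⁻¹ * x * g ∈ R := Iff.rfl

theorem conj_mem_cj {g : P} {R : Set P} {x : P} : g * x * g⁻¹ ∈ cj g R ↔ x ∈ R := by
  rw [mem_cj]
  have h : g⁻¹ * (g * x * g⁻¹) * g = x := by group
  rw [h]

theorem cj_eq_image (g : P) (R : Set P) : cj g R = (fun x => g * x * g⁻¹) '' R := by
  ext x
  constructor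
  · intro h
    exact ⟨_, h, by group⟩
  · rintro ⟨y, hy, rfl⟩
    exact conj_mem_cj.mpr hy

theorem ncard_cj (g : P) (R : Set P) : (cj g R).ncard = R.ncard := by
  rw [cj_eq_image]
  refine Set.ncard_image_of_injective _ fun x y h => ?_
  have h' : g * x * g⁻¹ = g * y * g⁻¹ := h
  exact mul_left_cancel (mul_right_cancel h')

theorem DS_eq_cj (T : Sylow 2 P) (g : P) : DS V T g = cj g (DS V T 1) := by
  ext x
  rw [mem_cj]
  constructor
  · rintro ⟨h1, h2⟩
    refine ⟨by simpa using mem_DD_conj h1 g⁻¹, ?_⟩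
    simpa using h2
  · rintro ⟨h1, h2⟩
    refine ⟨?_, by simpa using h2⟩
    have h3 := mem_DD_conj h1 g
    have h4 : g * (g⁻¹ * x * g) * g⁻¹ = x := by group
    rwa [h4] at h3

theorem DS_cj (T : Sylow 2 P) (g h : P) : cj h (DS V T g) = DS V T (h * g) := by
  rw [DS_eq_cj, DS_eq_cj (g := h * g)]
  ext x
  rw [mem_cj, mem_cj, mem_cj]
  have h4 : g⁻¹ * (h⁻¹ * x * h) * g = (h * g)⁻¹ * x * (h * g) := by group
  rw [h4]

theorem ncard_DS (T : Sylow 2 P) (g : P) : (DS V T g).ncard = (DS V T 1).ncard := by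
  rw [DS_eq_cj, ncard_cj]

theorem mem_DS_one {T : Sylow 2 P} {d : P} : d ∈ DS V T 1 ↔ d ∈ DD P V ∧ d ∈ T := by
  constructor
  · rintro ⟨h1, h2⟩
    exact ⟨h1, by simpa using h2⟩
  · rintro ⟨h1, h2⟩
    exact ⟨h1, by simpa using h2⟩

/-- the group generated by a commuting set of transvections -/
theorem Com.isPGroup (hf : Faith P V) {R : Set P} (hR : Com V R) : IsPGroup 2 (closure R) := by
  have h1 : IsMulCommutative (closure R) := isMulCommutative_closure hR.2
  have h2 : ∀ x ∈ closure R, x * x = 1 := by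
    intro x hx
    induction hx using closure_induction with
    | mem x hx =>
      obtain ⟨a, φ, h⟩ := hR.1 hx
      exact h.mul_self hf
    | one => exact mul_one 1
    | mul x y hx hy ihx ihy =>
      have h3 : x * y = y * x := setLike_mul_comm hx hy
      calc x * y * (x * y) = x * y * (y * x) := by rw [h3]
        _ = x * (y * y) * x := by group
        _ = 1 := by rw [ihy, mul_one, ihx]
    | inv x hx ih => rw [← mul_inv_rev, ih, inv_one]
  intro x
  refine ⟨1, ?_⟩
  apply Subtype.ext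
  change (x : P) ^ (2 ^ 1) = 1
  rw [pow_one, pow_two]
  exact h2 x x.2

theorem mem_smul_sylow {T : Sylow 2 P} {g x : P} : x ∈ g • T ↔ g⁻¹ * x * g ∈ T := by
  have h1 : x ∈ ((g • T : Sylow 2 P) : Subgroup P) ↔ g⁻¹ * x * g ∈ (T : Subgroup P) := by
    rw [Sylow.coe_subgroup_smul, mem_pointwise_smul_iff_inv_smul_mem]
    exact Iff.rfl
  exact h1

theorem Com.exists_subset [Finite P] (hf : Faith P V) (T : Sylow 2 P) {R : Set P} (hR : Com V R) :
    ∃ g, R ⊆ DS V T g := by
  have : Fact (Nat.Prime 2) := ⟨Nat.prime_two⟩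
  obtain ⟨Q, hQ⟩ := (hR.isPGroup hf).exists_le_sylow
  obtain ⟨g, hg⟩ := MulAction.exists_smul_eq P T Q
  refine ⟨g, fun x hx => ⟨hR.1 hx, ?_⟩⟩
  rw [← mem_smul_sylow, hg]
  exact hQ (subset_closure hx)

/-- a commuting set of transvections has at most as many elements as `DS T 1` -/
theorem Com.ncard_le [Finite P] (hf : Faith P V) (T : Sylow 2 P) {R : Set P} (hR : Com V R) :
    R.ncard ≤ (DS V T 1).ncard := by
  obtain ⟨g, hg⟩ := hR.exists_subset hf T
  rw [← ncard_DS T g]
  exact Set.ncard_le_ncard hg (Set.toFinite _)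

/-- maximality -/
theorem Com.eq_DS [Finite P] (hf : Faith P V) {T : Sylow 2 P} {R : Set P} (hR : Com V R) {g : P}
    (h : DS V T g ⊆ R) : R = DS V T g := by
  symm
  refine Set.eq_of_subset_of_ncard_le h ?_ (Set.toFinite _)
  rw [ncard_DS]
  exact hR.ncard_le hf T

theorem Com.mono {R S : Set P} (hR : Com V R) (h : S ⊆ R) : Com V S :=
  ⟨h.trans hR.1, fun d hd e he => hR.2 d (h hd) e (h he)⟩

namespace Pt

variable {T : Sylow 2 P} {M : Subgroup P} {v0 : V} {ψ0 : Du V}

/-- transvections in a 2-group commute -/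
theorem comm_of_pgroup [Finite P] (h : Pt P V T M v0 ψ0) {Q : Subgroup P} (hQ : IsPGroup 2 Q) {d e : P}
    (hd : d ∈ DD P V) (he : e ∈ DD P V) (hdQ : d ∈ Q) (heQ : e ∈ Q) : d * e = e * d := by
  obtain ⟨a, φ, hd⟩ := hd
  obtain ⟨b, ψ, he⟩ := he
  rcases zmod_cases (φ b) with h0 | h1
  · exact h.comm_of_zero hd he h0
  · have h2 := h.braid hd he h1
    have h3 : (d * e) ^ 3 = 1 := by
      calc (d * e) ^ 3 = d * e * d * (e * d * e) := by rw [pow_succ, pow_two]; group
        _ = d * e * (d * d) * (e * d) := by rw [← h2]; group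
        _ = d * (e * e) * d := by rw [hd.mul_self h.faith]; group
        _ = 1 := by rw [he.mul_self h.faith, mul_one, hd.mul_self h.faith]
    obtain ⟨n, hn⟩ := hQ ⟨d * e, mul_mem hdQ heQ⟩
    have hn' : (d * e) ^ (2 ^ n) = 1 := congrArg Subtype.val hn
    have h4 := Nat.dvd_gcd (orderOf_dvd_of_pow_eq_one h3) (orderOf_dvd_of_pow_eq_one hn')
    have h5 : Nat.gcd 3 (2 ^ n) = 1 := Nat.Coprime.pow_right n (by norm_num)
    rw [h5, Nat.dvd_one, orderOf_eq_one_iff] at h4
    have h6 := eq_inv_of_mul_eq_one_left h4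
    rw [h6, inv_mul_cancel, mul_inv_cancel]

theorem com_DS [Finite P] (h : Pt P V T M v0 ψ0) (g : P) : Com V (DS V T g) := by
  refine ⟨fun d hd => hd.1, fun d hd e he => ?_⟩
  exact h.comm_of_pgroup (Q := (g • T : Sylow 2 P)) (g • T).isPGroup' hd.1 he.1 (mem_smul_sylow.mpr hd.2)
    (mem_smul_sylow.mpr he.2)

theorem DS_nonempty [Finite P] (h : Pt P V T M v0 ψ0) : (DS V T 1).Nonempty := by
  obtain ⟨d, hd⟩ := h.tv
  have h1 : Com V {d} := by
    refine ⟨by rintro x rfl; exact hd, ?_⟩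
    rintro x rfl y rfl
    rfl
  have h2 := h1.ncard_le h.faith T
  rw [Set.ncard_singleton] at h2
  exact (Set.ncard_pos (Set.toFinite _)).mp h2

/-- the transvections determine the fixed vector -/
theorem smul_eq_of_DS_eq [Finite P] (h : Pt P V T M v0 ψ0) {g k : P} (hs : DS V T g = DS V T k) :
    g • v0 = k • v0 := by
  have h0 : DS V T (k⁻¹ * g) = DS V T 1 := by
    rw [← DS_cj, hs, DS_cj, inv_mul_cancel]
  have hmem : ∀ x : P, DS V T x = DS V T 1 → x ∈ normalizer (closure (DS V T 1) : Set P) := by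
    intro x hx
    have h1 : ∀ y : P, DS V T y = DS V T 1 → ∀ z ∈ closure (DS V T 1), y * z * y⁻¹ ∈ closure (DS V T 1) := by
      intro y hy z hz
      have h3 : closure (DS V T 1) ≤ (closure (DS V T 1)).comap (MulAut.conj y).toMonoidHom := by
        rw [closure_le]
        intro d hd
        refine subset_closure ?_
        change y * d * y⁻¹ ∈ DS V T 1
        rw [← hy, DS_eq_cj]
        exact conj_mem_cj.mpr hd
      exact h3 hz
    have hx' : DS V T x⁻¹ = DS V T 1 := by
      have h4 : cj x⁻¹ (DS V T x) = cj x⁻¹ (DS V T 1) := by rw [hx]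
      rw [DS_cj, DS_cj, inv_mul_cancel, mul_one] at h4
      exact h4.symm
    rw [mem_normalizer_iff]
    intro z
    refine ⟨h1 x hx z, fun hz => ?_⟩
    have h5 := h1 x⁻¹ hx' _ hz
    have h6 : x⁻¹ * (x * z * x⁻¹) * x⁻¹⁻¹ = z := by group
    rwa [h6] at h5
  have hT : (T : Subgroup P) ≤ normalizer (closure (DS V T 1) : Set P) := by
    intro t ht
    refine hmem t ?_
    ext x
    constructor
    · rintro ⟨h1, h2⟩
      refine ⟨h1, ?_⟩
      have h3 := mul_mem (mul_mem ht h2) ((T : Subgroup P).inv_mem ht)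
      have h4 : t * (t⁻¹ * x * t) * t⁻¹ = 1⁻¹ * x * 1 := by group
      rwa [h4] at h3
    · rintro ⟨h1, h2⟩
      refine ⟨h1, ?_⟩
      have h3 := mul_mem (mul_mem ((T : Subgroup P).inv_mem ht) h2) ht
      have h4 : t⁻¹ * (1⁻¹ * x * 1) * t = t⁻¹ * x * t := by group
      rwa [h4] at h3
  have hM : normalizer (closure (DS V T 1) : Set P) ≤ M := by
    rcases h.max _ hT with h1 | h1
    · exact h1
    · exfalso
      have h2 : (closure (DS V T 1)).Normal := normalizer_eq_top_iff.mp h1
      have h3 := h.core _ h2 ((h.com_DS 1).isPGroup h.faith)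
      obtain ⟨d, hd⟩ := h.DS_nonempty
      have h4 : d ∈ closure (DS V T 1) := subset_closure hd
      rw [h3, mem_bot] at h4
      exact (tv_of_mem hd.1).ne_one h4
  have h5 := (h.v_mem _).mp (hM (hmem _ h0))
  rw [mul_smul, inv_smul_eq_iff] at h5
  exact h5

/-- the uniqueness lemma -/
theorem unique_smul [Finite P] (h : Pt P V T M v0 ψ0) {σ : Set P} (hσ : σ ⊆ DS V T 1)
    (hC : ∀ e ∈ DD P V, (∀ d ∈ σ, d * e = e * d) → e ∈ M) {k : P} (hk : σ ⊆ DS V T k) : k • v0 = v0 := by
  have : Fact (Nat.Prime 2) := ⟨Nat.prime_two⟩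
  set X : Subgroup P := closure {e | e ∈ DD P V ∧ ∀ d ∈ σ, d * e = e * d} with hX
  have hXM : X ≤ M := by
    rw [hX, closure_le]
    rintro e ⟨he, hc⟩
    exact hC e he hc
  have hle : ∀ g : P, σ ⊆ DS V T g → closure (DS V T g) ≤ X := by
    intro g hg
    rw [closure_le]
    intro e he
    exact subset_closure ⟨he.1, fun d hd => (h.com_DS g).2 d (hg hd) e he⟩
  have h1 := hle 1 hσ
  have h2 := hle k hk
  have hp1 : IsPGroup 2 ((closure (DS V T 1)).subgroupOf X) :=
    ((h.com_DS 1).isPGroup h.faith).comap_of_injective X.subtype X.subtype_injective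
  have hp2 : IsPGroup 2 ((closure (DS V T k)).subgroupOf X) :=
    ((h.com_DS k).isPGroup h.faith).comap_of_injective X.subtype X.subtype_injective
  obtain ⟨S1, hS1⟩ := hp1.exists_le_sylow
  obtain ⟨S2, hS2⟩ := hp2.exists_le_sylow
  obtain ⟨x, hx⟩ := MulAction.exists_smul_eq X S2 S1
  -- all in the image of `S1`
  set Q : Subgroup P := (S1 : Subgroup X).map X.subtype with hQ
  have hQp : IsPGroup 2 Q := S1.isPGroup'.map X.subtype
  have hq1 : ∀ d ∈ DS V T 1, d ∈ Q := by
    intro d hd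
    have h3 : d ∈ closure (DS V T 1) := subset_closure hd
    exact ⟨⟨d, h1 h3⟩, hS1 h3, rfl⟩
  have hq2 : ∀ d ∈ DS V T k, (x : P) * d * (x : P)⁻¹ ∈ Q := by
    intro d hd
    have h3 : d ∈ closure (DS V T k) := subset_closure hd
    refine ⟨x * ⟨d, h2 h3⟩ * x⁻¹, ?_, rfl⟩
    change _ ∈ S1
    rw [← hx, mem_smul_sylow]
    have h4 : x⁻¹ * (x * (⟨d, h2 h3⟩ : X) * x⁻¹) * x = ⟨d, h2 h3⟩ := by group
    rw [h4]
    exact hS2 h3
  have hcom : Com V (DS V T 1 ∪ DS V T ((x : P) * k)) := by
    have h5 : ∀ d ∈ DS V T 1 ∪ DS V T ((x : P) * k), d ∈ DD P V ∧ d ∈ Q := by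
      rintro d (hd | hd)
      · exact ⟨hd.1, hq1 d hd⟩
      · refine ⟨hd.1, ?_⟩
        rw [← DS_cj, mem_cj] at hd
        have h6 := hq2 _ hd
        have h7 : (x : P) * ((x : P)⁻¹ * d * x) * (x : P)⁻¹ = d := by group
        rwa [h7] at h6
    exact ⟨fun d hd => (h5 d hd).1, fun d hd e he =>
      h.comm_of_pgroup hQp (h5 d hd).1 (h5 e he).1 (h5 d hd).2 (h5 e he).2⟩
  have h6 := hcom.eq_DS h.faith Set.subset_union_left
  have h7 := hcom.eq_DS h.faith Set.subset_union_right
  have h8 := h.smul_eq_of_DS_eq (h6.symm.trans h7)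
  rw [one_smul, mul_smul] at h8
  have h9 := (h.v_mem _).mp (hXM x.2)
  have h10 : (x : P) • (k • v0) = (x : P) • v0 := by rw [← h8, h9]
  exact smul_left_cancel _ h10

end Pt

end Cfsg.Agent.Omega.Transv

end

section


/-!
# Minimal parabolics with transvections: the dual frame

The transvections `d` in the Sylow subgroup `T` are all conjugate in `T`, and each of them has a transvection
`e ∉ M` which commutes with all the others and not with `d`.
-/

set_option autoImplicit false

namespace Cfsg.Agent.Omega.Transv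

open Subgroup

variable {P : Type*} [Group P] {V : Type*} [AddCommGroup V] [Module (ZMod 2) V] [DistribMulAction P V]

theorem zero_ne_one' : ¬ (0 : ZMod 2) = 1 := by decide

theorem conj_comm {x y c : P} (hx : x * c = c * x) (hy : y * c = c * y) : (x * y)⁻¹ * c * (x * y) = c := by
  calc (x * y)⁻¹ * c * (x * y) = y⁻¹ * x⁻¹ * (c * x) * y := by group
    _ = y⁻¹ * (c * y) := by rw [← hx]; group
    _ = c := by rw [← hy]; group

namespace Pt

variable {T : Sylow 2 P} {M : Subgroup P} {v0 : V} {ψ0 : Du V}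

/-- one dual pair -/
theorem exists_dual [Finite P] (h : Pt P V T M v0 ψ0) :
    ∃ d ∈ DS V T 1, ∃ e ∈ DD P V, e ∉ M ∧ ∀ c ∈ DS V T 1, (fn V e (ctr V c) = 1 ↔ c = d) := by
  obtain ⟨d0, hd0⟩ := h.tv
  obtain ⟨g0, hg0⟩ := h.toHyp.exists_conj_notMem hd0
  obtain ⟨ρ, ⟨hρ, e, he, heM, hρe⟩, hmax⟩ := Set.exists_max_image
    {σ : Set P | σ ⊆ DS V T 1 ∧ ∃ e ∈ DD P V, e ∉ M ∧ ∀ d ∈ σ, d * e = e * d} Set.ncard (Set.toFinite _)
    ⟨∅, Set.empty_subset _, _, mem_DD_conj hd0 g0, hg0, fun d hd => absurd hd (Set.notMem_empty d)⟩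
  have hte := tv_of_mem he
  have hee := hte.mul_self h.faith
  -- an element outside `ρ`
  have hex : ∃ d ∈ DS V T 1, d ∉ ρ := by
    by_contra hc
    push Not at hc
    have h1 : Com V (insert e (DS V T 1)) := by
      refine ⟨?_, ?_⟩
      · rintro x (rfl | hx)
        · exact he
        · exact hx.1
      · rintro x (rfl | hx) y (rfl | hy)
        · rfl
        · exact (hρe y (hc y hy)).symm
        · exact hρe x (hc x hx)
        · exact (h.com_DS 1).2 x hx y hy
    have h2 := h1.eq_DS h.faith (g := 1) (Set.subset_insert _ _)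
    have h3 : e ∈ DS V T 1 := by
      rw [← h2]
      exact Set.mem_insert _ _
    exact heM (h.le (mem_DS_one.mp h3).2)
  have hins : ∀ d ∈ DS V T 1, d ∉ ρ → insert d ρ ⊆ DS V T 1 ∧ ρ.ncard < (insert d ρ).ncard := by
    intro d hd hdρ
    refine ⟨Set.insert_subset hd hρ, ?_⟩
    rw [Set.ncard_insert_of_notMem hdρ (Set.toFinite _)]
    exact Nat.lt_succ_self _
  have hone : ∀ d ∈ DS V T 1, d ∉ ρ → fn V d (ctr V e) = 1 := by
    intro d hd hdρ
    refine eq_one_of_ne fun h0 => ?_
    have h1 := h.comm_of_zero (tv_of_mem hd.1) hte h0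
    obtain ⟨h2, h3⟩ := hins d hd hdρ
    refine absurd (hmax (insert d ρ) ⟨h2, e, he, heM, ?_⟩) (not_le.mpr h3)
    rintro x (rfl | hx)
    · exact h1
    · exact hρe x hx
  have huniq : ∀ d ∈ DS V T 1, d ∉ ρ → ∀ d' ∈ DS V T 1, d' ∉ ρ → d = d' := by
    intro d hd hdρ d' hd' hdρ'
    have htd := tv_of_mem hd.1
    have htd' := tv_of_mem hd'.1
    have h1 := hone d hd hdρ
    have h1' := hone d' hd' hdρ'
    have hx := h.third htd hte h1
    have hx' := h.third htd' hte h1'
    have hb := h.braid htd hte h1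
    have hb' := h.braid htd' hte h1'
    have hdd := htd.mul_self h.faith
    have hdd' := htd'.mul_self h.faith
    have hxx := hx.mul_self h.faith
    have hxx' := hx'.mul_self h.faith
    obtain ⟨h2, h3⟩ := hins d hd hdρ
    -- conjugation
    have hc1 : (d * e * d) * d * (d * e * d) = e := by
      calc (d * e * d) * d * (d * e * d) = d * e * (d * d) * (d * e * d) := by group
        _ = d * (e * d * e) * d := by rw [hdd]; group
        _ = d * d * e * (d * d) := by rw [← hb]; group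
        _ = e := by rw [hdd]; group
    have hc2 : (d' * e * d') * e * (d' * e * d') = d' := by
      calc (d' * e * d') * e * (d' * e * d') = (e * d' * e) * e * (e * d' * e) := by rw [hb']
        _ = e * d' * (e * e) * e * d' * e := by group
        _ = e * (d' * e * d') * e := by rw [hee]; group
        _ = e * e * d' * (e * e) := by rw [hb']; group
        _ = d' := by rw [hee]; group
    have hcρ : ∀ c ∈ ρ, ∀ f ∈ DS V T 1, (f * e * f) * c = c * (f * e * f) := by
      intro c hc f hf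
      have h4 := (h.com_DS 1).2 f hf c (hρ hc)
      have h5 := hρe c hc
      calc (f * e * f) * c = f * e * (f * c) := by group
        _ = f * (e * c) * f := by rw [h4]; group
        _ = (f * c) * e * f := by rw [← h5]; group
        _ = c * (f * e * f) := by rw [h4]; group
    have hsub : insert d ρ ⊆ DS V T ((d * e * d) * (d' * e * d')) := by
      rintro c (rfl | hc)
      · refine ⟨hd.1, ?_⟩
        have h4 : ((c * e * c) * (d' * e * d'))⁻¹ * c * ((c * e * c) * (d' * e * d')) = d' := by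
          rw [mul_inv_rev, hx.inv_eq h.faith, hx'.inv_eq h.faith]
          calc (d' * e * d') * (c * e * c) * c * ((c * e * c) * (d' * e * d'))
              = (d' * e * d') * ((c * e * c) * c * (c * e * c)) * (d' * e * d') := by group
            _ = d' := by rw [hc1, hc2]
        rw [h4]
        exact (mem_DS_one.mp hd').2
      · refine ⟨(hρ hc).1, ?_⟩
        rw [conj_comm (hcρ c hc d hd) (hcρ c hc d' hd')]
        exact (mem_DS_one.mp (hρ hc)).2
    have h7 := h.unique_smul h2 (fun f hf hcf => by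
      by_contra hfM
      exact absurd (hmax (insert d ρ) ⟨h2, f, hf, hfM, hcf⟩) (not_le.mpr h3)) hsub
    have h8 : (d' * e * d') • v0 = (d * e * d) • v0 := by
      rw [mul_smul, ← hx.inv_eq h.faith, inv_smul_eq_iff] at h7
      exact h7
    have hz : fn V d v0 = 0 := (h.mem_iff htd).mp (h.le (mem_DS_one.mp hd).2)
    have hz' : fn V d' v0 = 0 := (h.mem_iff htd').mp (h.le (mem_DS_one.mp hd').2)
    have hze : fn V e v0 = 1 := (h.notMem_iff hte).mp heM
    rw [hx.act, hx'.act, LinearMap.add_apply, LinearMap.add_apply, hz, hz', hze, zero_add, one_smul, one_smul] at h8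
    have h9 : ctr V d = ctr V d' := (add_right_cancel (add_left_cancel h8)).symm
    rw [h9] at htd
    exact h.eq_of_ctr htd htd'
  obtain ⟨d, hd, hdρ⟩ := hex
  refine ⟨d, hd, e, he, heM, fun c hc => ⟨fun h1 => ?_, ?_⟩⟩
  · by_cases hcρ : c ∈ ρ
    · have h2 := h.zero_of_comm hte (tv_of_mem hc.1) (hρe c hcρ).symm
      rw [h2] at h1
      exact absurd h1 zero_ne_one'
    · exact huniq c hc hcρ d hd hdρ
  · rintro rfl
    rw [← h.symm (tv_of_mem hd.1) hte]
    exact hone c hd hdρ

theorem smul_DS {t : P} (ht : t ∈ T) {d : P} (hd : d ∈ DS V T 1) : t * d * t⁻¹ ∈ DS V T 1 := by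
  rw [mem_DS_one] at hd ⊢
  exact ⟨mem_DD_conj hd.1 t, mul_mem (mul_mem ht hd.2) ((T : Subgroup P).inv_mem ht)⟩

/-- the transvections in `T` are conjugate in `T` -/
theorem exists_conj [Finite P] (h : Pt P V T M v0 ψ0) {d e : P} (he : e ∈ DD P V)
    (heM : e ∉ M) (hde : ∀ c ∈ DS V T 1, (fn V e (ctr V c) = 1 ↔ c = d)) {c : P} (hc : c ∈ DS V T 1) :
    ∃ t ∈ T, c = t * d * t⁻¹ := by
  by_contra hcon
  push Not at hcon
  have hte := tv_of_mem he
  set K : Subgroup P := closure {x | ∃ t ∈ T, x = t * c * t⁻¹} with hK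
  have hcomm : ∀ x, (∃ t ∈ T, x = t * c * t⁻¹) → x * e = e * x := by
    rintro x ⟨t, ht, rfl⟩
    have h1 := smul_DS ht hc
    refine (h.comm_of_zero hte (tv_of_mem h1.1) ?_).symm
    refine eq_zero_of_ne fun h2 => ?_
    have h3 := (hde _ h1).mp h2
    refine hcon t⁻¹ ((T : Subgroup P).inv_mem ht) ?_
    rw [← h3]
    group
  have heK : e ∈ normalizer (K : Set P) := by
    have h1 : K ≤ centralizer {e} := by
      rw [hK, closure_le]
      intro x hx
      rw [SetLike.mem_coe, mem_centralizer_singleton_iff]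
      exact hcomm x hx
    have h2 : ∀ x ∈ K, x * e = e * x := fun x hx => mem_centralizer_singleton_iff.mp (h1 hx)
    rw [mem_normalizer_iff]
    intro x
    constructor
    · intro hx
      rw [← h2 x hx, mul_inv_cancel_right]
      exact hx
    · intro hx
      have h3 := h2 _ hx
      have h4 : e * x * e⁻¹ = x := by
        have h5 : e * x = e * (e * x * e⁻¹) := by
          rw [← h3]
          group
        exact (mul_left_cancel h5).symm
      rwa [h4] at hx
  have hTK : (T : Subgroup P) ≤ normalizer (K : Set P) := by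
    have h1 : ∀ t ∈ T, ∀ x ∈ K, t * x * t⁻¹ ∈ K := by
      intro t ht x hx
      have h3 : K ≤ K.comap (MulAut.conj t).toMonoidHom := by
        rw [hK, closure_le]
        rintro y ⟨s, hs, rfl⟩
        refine subset_closure ⟨t * s, mul_mem ht hs, ?_⟩
        change t * (s * c * s⁻¹) * t⁻¹ = _
        group
      exact h3 hx
    intro t ht
    rw [mem_normalizer_iff]
    intro x
    refine ⟨h1 t ht x, fun hx => ?_⟩
    have h5 := h1 t⁻¹ ((T : Subgroup P).inv_mem ht) _ hx
    have h6 : t⁻¹ * (t * x * t⁻¹) * t⁻¹⁻¹ = x := by group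
    rwa [h6] at h5
  rcases h.max _ hTK with h1 | h1
  · exact heM (h1 heK)
  · have h2 : K.Normal := normalizer_eq_top_iff.mp h1
    have h3 : K ≤ closure (DS V T 1) := by
      rw [hK, closure_le]
      rintro x ⟨t, ht, rfl⟩
      exact subset_closure (smul_DS ht hc)
    have h4 := h.core _ h2 (((h.com_DS 1).isPGroup h.faith).to_le h3)
    have h5 : c ∈ K := subset_closure ⟨1, (T : Subgroup P).one_mem, by group⟩
    rw [h4, mem_bot] at h5
    exact (tv_of_mem hc.1).ne_one h5

/-- the dual frame -/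
theorem exists_frame [Finite P] (h : Pt P V T M v0 ψ0) {i : P} (hi : i ∈ DS V T 1) :
    ∃ e ∈ DD P V, e ∉ M ∧ ∀ c ∈ DS V T 1, (fn V e (ctr V c) = 1 ↔ c = i) := by
  obtain ⟨d, -, e, he, heM, hde⟩ := h.exists_dual
  obtain ⟨t, ht, rfl⟩ := h.exists_conj he heM hde hi
  refine ⟨t * e * t⁻¹, mem_DD_conj he t, fun h1 => heM ?_, fun c hc => ?_⟩
  · have h2 := M.mul_mem (M.mul_mem (M.inv_mem (h.le ht)) h1) (h.le ht)
    have h3 : t⁻¹ * (t * e * t⁻¹) * t = e := by group
    rwa [h3] at h2
  · have h1 := smul_DS ((T : Subgroup P).inv_mem ht) hc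
    rw [inv_inv] at h1
    have h2 := fn_conj_apply he t (ctr V (t⁻¹ * c * t))
    have h3 := ctr_conj h1.1 t
    have h4 : t * (t⁻¹ * c * t) * t⁻¹ = c := by group
    rw [h4] at h3
    rw [h3, h2, hde _ h1]
    constructor
    · intro h5
      rw [← h5]
      group
    · intro h5
      rw [h5]
      group

/-- transitivity -/
theorem exists_conj' [Finite P] (h : Pt P V T M v0 ψ0) {i j : P} (hi : i ∈ DS V T 1) (hj : j ∈ DS V T 1) :
    ∃ t ∈ T, j = t * i * t⁻¹ := by
  obtain ⟨d, -, e, he, heM, hde⟩ := h.exists_dual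
  obtain ⟨t, ht, rfl⟩ := h.exists_conj he heM hde hi
  obtain ⟨s, hs, rfl⟩ := h.exists_conj he heM hde hj
  refine ⟨s * t⁻¹, mul_mem hs ((T : Subgroup P).inv_mem ht), ?_⟩
  group

/-- all transvections are conjugate -/
theorem all_conj [Finite P] (h : Pt P V T M v0 ψ0) : ∀ d ∈ DD P V, ∀ e ∈ DD P V, ∃ g, e = g * d * g⁻¹ := by
  have key : ∀ d ∈ DD P V, ∃ g, ∃ i ∈ DS V T 1, d = g * i * g⁻¹ := by
    intro d hd
    have h1 : Com V {d} := by
      refine ⟨by rintro x rfl; exact hd, ?_⟩
      rintro x rfl y rfl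
      rfl
    obtain ⟨g, hg⟩ := h1.exists_subset h.faith T
    have h2 : d ∈ DS V T g := hg rfl
    rw [DS_eq_cj, mem_cj] at h2
    exact ⟨g, _, h2, by group⟩
  intro d hd e he
  obtain ⟨g, i, hi, rfl⟩ := key d hd
  obtain ⟨k, j, hj, rfl⟩ := key e he
  obtain ⟨t, -, rfl⟩ := h.exists_conj' hi hj
  refine ⟨k * t * g⁻¹, ?_⟩
  group

end Pt

end Cfsg.Agent.Omega.Transv

end

section


/-!
# Minimal parabolics with transvections: all transvections

`Fr`: the transvections `D i` of the Sylow subgroup `T`, and dual transvections `E i`.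
-/

set_option autoImplicit false

namespace Cfsg.Agent.Omega.Transv

open Subgroup

variable {P : Type*} [Group P] {V : Type*} [AddCommGroup V] [Module (ZMod 2) V] [DistribMulAction P V]

/-- a frame -/
structure Fr (P V : Type*) [Group P] [AddCommGroup V] [Module (ZMod 2) V] [DistribMulAction P V]
    (T : Sylow 2 P) (M : Subgroup P) (v0 : V) (ψ0 : Du V) (ι : Type*) [DecidableEq ι] (D E : ι → P) (a b : ι → V)
    (φ ε : ι → Du V) : Prop extends Pt P V T M v0 ψ0 where
  hD : ∀ i, Tv (D i) (a i) (φ i)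
  DT : ∀ i, D i ∈ T
  surj : ∀ d ∈ DD P V, d ∈ T → ∃ i, D i = d
  inj : Function.Injective D
  hE : ∀ i, Tv (E i) (b i) (ε i)
  EM : ∀ i, E i ∉ M
  dual : ∀ i j, ε i (a j) = if j = i then 1 else 0
  trans : ∀ i j, ∃ t ∈ T, D j = t * D i * t⁻¹

theorem Pt.exists_fr [Finite P] {T : Sylow 2 P} {M : Subgroup P} {v0 : V} {ψ0 : Du V} (h : Pt P V T M v0 ψ0)
    [DecidableEq (DS V T 1)] :
    ∃ (D E : (DS V T 1) → P) (a b : (DS V T 1) → V) (φ ε : (DS V T 1) → Du V),
      Fr P V T M v0 ψ0 (DS V T 1) D E a b φ ε := by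
  choose E h1 h2 h3 using fun i : DS V T 1 => h.exists_frame i.2
  refine ⟨fun i => i, E, fun i => ctr V (i : P), fun i => ctr V (E i), fun i => fn V (i : P), fun i => fn V (E i), ?_⟩
  refine { h with
    hD := fun i => tv_of_mem i.2.1
    DT := fun i => (mem_DS_one.mp i.2).2
    surj := fun d hd hT => ⟨⟨d, mem_DS_one.mpr ⟨hd, hT⟩⟩, rfl⟩
    inj := Subtype.val_injective
    hE := fun i => tv_of_mem (h1 i)
    EM := h2
    dual := fun i j => ?_
    trans := fun i j => h.exists_conj' i.2 j.2 }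
  have h4 := h3 i j j.2
  by_cases hij : j = i
  · rw [if_pos hij]
    exact h4.mpr (congrArg Subtype.val hij)
  · rw [if_neg hij]
    exact eq_zero_of_ne fun h5 => hij (Subtype.ext (h4.mp h5))

namespace Fr

variable {T : Sylow 2 P} {M : Subgroup P} {v0 : V} {ψ0 : Du V} {ι : Type*} [DecidableEq ι] {D E : ι → P}
  {a b : ι → V} {φ ε : ι → Du V}

theorem DM (h : Fr P V T M v0 ψ0 ι D E a b φ ε) (i : ι) : D i ∈ M := h.le (h.DT i)

theorem orth [Finite P] (h : Fr P V T M v0 ψ0 ι D E a b φ ε) (i j : ι) : φ i (a j) = 0 :=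
  h.zero_of_comm (h.hD i) (h.hD j) (h.comm_of_pgroup T.isPGroup' (h.hD i).mem (h.hD j).mem (h.DT i) (h.DT j))

theorem dual' [Finite P] (h : Fr P V T M v0 ψ0 ι D E a b φ ε) (i j : ι) : φ j (b i) = if j = i then 1 else 0 := by
  rw [h.symm (h.hD j) (h.hE i), h.dual]

theorem a_inj [Finite P] (h : Fr P V T M v0 ψ0 ι D E a b φ ε) {i j : ι} (hij : a i = a j) : i = j := by
  have h1 := h.hD i
  rw [hij] at h1
  exact h.inj (h.eq_of_ctr h1 (h.hD j))

theorem mem_of_orth [Finite P] (h : Fr P V T M v0 ψ0 ι D E a b φ ε) {c : P} {x : V} {χ : Du V} (hc : Tv c x χ)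
    (h0 : ∀ i, χ (a i) = 0) : ∃ i, D i = c := by
  have h1 : ∀ d ∈ DS V T 1, c * d = d * c := by
    intro d hd
    rw [mem_DS_one] at hd
    obtain ⟨i, rfl⟩ := h.surj d hd.1 hd.2
    exact h.comm_of_zero hc (h.hD i) (h0 i)
  have h2 : Com V (insert c (DS V T 1)) := by
    refine ⟨?_, ?_⟩
    · rintro x (rfl | hx)
      · exact hc.mem
      · exact hx.1
    · rintro x (rfl | hx) y (rfl | hy)
      · rfl
      · exact h1 y hy
      · exact (h1 x hx).symm
      · exact (h.com_DS 1).2 x hx y hy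
  have h3 := h2.eq_DS h.faith (g := 1) (Set.subset_insert _ _)
  have h4 : c ∈ DS V T 1 := by
    rw [← h3]
    exact Set.mem_insert _ _
  rw [mem_DS_one] at h4
  exact h.surj c h4.1 h4.2

theorem dual_sum [Finite P] (h : Fr P V T M v0 ψ0 ι D E a b φ ε) (i : ι) (S : Finset ι) :
    ε i (∑ j ∈ S, a j) = if i ∈ S then 1 else 0 := by
  rw [map_sum]
  simp only [h.dual]
  rw [Finset.sum_ite_eq']

theorem orth_sum [Finite P] (h : Fr P V T M v0 ψ0 ι D E a b φ ε) (i : ι) (S : Finset ι) :
    φ i (∑ j ∈ S, a j) = 0 := by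
  rw [map_sum]
  exact Finset.sum_eq_zero fun j _ => h.orth i j

/-- the fixed vector is the sum of all the centres in `T` -/
theorem v0_eq [Finite P] [Fintype ι] [Nonempty ι] (h : Fr P V T M v0 ψ0 ι D E a b φ ε) : v0 = ∑ i, a i := by
  have h1 : ∀ t ∈ T, t • (∑ i, a i) = ∑ i, a i := by
    intro t ht
    have h2 : ∀ i, ∃ j, t • a i = a j := by
      intro i
      have h3 := (h.hD i).conj t
      obtain ⟨j, hj⟩ := h.surj _ h3.mem (mul_mem (mul_mem ht (h.DT i)) ((T : Subgroup P).inv_mem ht))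
      refine ⟨j, ?_⟩
      rw [← hj] at h3
      exact (h3.unique (h.hD j)).1
    choose f hf using h2
    have hinj : Function.Injective f := by
      intro i j hij
      have h4 : t • a i = t • a j := by rw [hf, hf, hij]
      exact h.a_inj (smul_left_cancel t h4)
    rw [Finset.smul_sum]
    simp only [hf]
    exact Function.Bijective.sum_comp (Finite.injective_iff_bijective.mp hinj) a
  rcases h.v_uniq _ h1 with h2 | h2
  · exfalso
    obtain ⟨i⟩ := ‹Nonempty ι›
    have h3 := h.dual_sum i Finset.univ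
    rw [h2, map_zero, if_pos (Finset.mem_univ i)] at h3
    exact one_ne h3.symm
  · exact h2.symm

/-- a product of transvections of `T` -/
theorem exists_prod [Finite P] (h : Fr P V T M v0 ψ0 ι D E a b φ ε) (S : Finset ι) :
    ∃ w : P, ∀ v : V, w • v = v + ∑ i ∈ S, φ i v • a i := by
  induction S using Finset.induction_on with
  | empty => exact ⟨1, fun v => by rw [one_smul, Finset.sum_empty, add_zero]⟩
  | insert i S hi ih =>
    obtain ⟨w, hw⟩ := ih
    refine ⟨D i * w, fun v => ?_⟩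
    rw [mul_smul, hw, (h.hD i).act, map_add, Finset.sum_insert hi]
    have h1 : φ i (∑ j ∈ S, φ j v • a j) = 0 := by
      rw [map_sum]
      refine Finset.sum_eq_zero fun j _ => ?_
      rw [map_smul, h.orth, smul_zero]
    rw [h1, add_zero]
    abel

/-- a transvection outside `M` moves exactly one of the centres in `T` -/
theorem exists_single [Finite P] [Fintype ι] [Nonempty ι] (h : Fr P V T M v0 ψ0 ι D E a b φ ε) {c : P} {x : V}
    {χ : Du V} (hc : Tv c x χ) (hM : c ∉ M) : ∃ l, ∀ i, χ (a i) = if i = l then 1 else 0 := by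
  classical
  set S : Finset ι := Finset.univ.filter fun i => χ (a i) = 1 with hS
  have hmem : ∀ i, i ∈ S ↔ χ (a i) = 1 := by
    intro i
    rw [hS, Finset.mem_filter]
    exact ⟨fun h => h.2, fun h => ⟨Finset.mem_univ i, h⟩⟩
  have hsum : ∑ i ∈ S, χ (a i) = 1 := by
    have h1 := (h.notMem_iff hc).mp hM
    rw [h.v0_eq, map_sum] at h1
    rw [← h1]
    refine Finset.sum_subset (Finset.subset_univ S) fun i _ hi => ?_
    exact eq_zero_of_ne fun h2 => hi ((hmem i).mpr h2)
  obtain ⟨w, hw⟩ := h.exists_prod S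
  have hwx : w • x = x + ∑ i ∈ S, a i := by
    rw [hw]
    congr 1
    refine Finset.sum_congr rfl fun i hi => ?_
    rw [h.symm (h.hD i) hc, (hmem i).mp hi, one_smul]
  have h1 : χ (w • x) = 1 := by rw [hwx, map_add, hc.self, zero_add, map_sum, hsum]
  have h2 := h.third hc (hc.conj w) h1
  have h3 : x + w • x = ∑ i ∈ S, a i := by rw [hwx, ← add_assoc, add_self, zero_add]
  rw [h3] at h2
  obtain ⟨l, hl⟩ := h.mem_of_orth h2 fun i => by
    rw [h.symm h2 (h.hD i), h.orth_sum]
  rw [← hl] at h2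
  have h4 := ((h.hD l).unique h2).1
  refine ⟨l, fun i => ?_⟩
  have h5 := h.dual_sum i S
  rw [← h4, h.dual] at h5
  by_cases hi : i ∈ S
  · rw [if_pos hi] at h5
    rw [(hmem i).mp hi]
    by_cases hil : i = l
    · rw [if_pos hil]
    · rw [if_neg (fun h0 => hil h0.symm)] at h5
      exact absurd h5 zero_ne_one'
  · rw [if_neg hi] at h5
    have h6 : χ (a i) = 0 := eq_zero_of_ne fun h0 => hi ((hmem i).mpr h0)
    rw [h6]
    by_cases hil : i = l
    · rw [if_pos hil.symm] at h5
      exact absurd h5 one_ne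
    · rw [if_neg hil]

/-- a dual transvection and its conjugate -/
theorem hE' [Finite P] (h : Fr P V T M v0 ψ0 ι D E a b φ ε) (i : ι) :
    Tv (D i * E i * D i) (a i + b i) (φ i + ε i) :=
  h.third (h.hD i) (h.hE i) (by rw [h.dual', if_pos rfl])

theorem EM' [Finite P] (h : Fr P V T M v0 ψ0 ι D E a b φ ε) (i : ι) : D i * E i * D i ∉ M := by
  intro h1
  have h2 := M.mul_mem (M.mul_mem (h.DM i) h1) (h.DM i)
  have h3 : D i * (D i * E i * D i) * D i = E i := by
    calc D i * (D i * E i * D i) * D i = (D i * D i) * E i * (D i * D i) := by group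
      _ = E i := by rw [(h.hD i).mul_self h.faith]; group
  rw [h3] at h2
  exact h.EM i h2

/-- the transvections outside `M` -/
theorem typeE [Finite P] [Fintype ι] [Nonempty ι] (h : Fr P V T M v0 ψ0 ι D E a b φ ε) {c : P} {x : V}
    {χ : Du V} (hc : Tv c x χ) (hM : c ∉ M) : ∃ l, ∃ s : ZMod 2, x = b l + s • a l := by
  obtain ⟨l, hl⟩ := h.exists_single hc hM
  -- two transvections outside `M` with the same index
  have key : ∀ {d : P} {y : V} {η : Du V}, Tv d y η → (∀ i, η (a i) = if i = l then 1 else 0) → χ y = 1 →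
      x = y + a l := by
    intro d y η hd hη h1
    have h2 := h.third hc hd h1
    obtain ⟨i, hi⟩ := h.mem_of_orth h2 fun i => by
      rw [LinearMap.add_apply, hl, hη, add_self]
    rw [← hi] at h2
    have h3 := ((h.hD i).unique h2).1
    have h4 : χ (a i) = 1 := by rw [h3, map_add, hc.self, h1, zero_add]
    have h5 : i = l := by
      by_contra hne
      rw [hl, if_neg hne] at h4
      exact zero_ne_one' h4
    subst h5
    rw [h3, add_comm x y, ← add_assoc, add_self, zero_add]
  refine ⟨l, ?_⟩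
  rcases zmod_cases (χ (b l)) with h0 | h1
  · -- then `x = b l`
    refine ⟨0, ?_⟩
    have h1 : χ (a l + b l) = 1 := by rw [map_add, h0, add_zero, hl, if_pos rfl]
    have h2 := key (h.hE' l) (fun i => by rw [LinearMap.add_apply, h.orth, h.dual, zero_add]) h1
    rw [h2, zero_smul, add_zero, add_comm (a l) (b l), add_add_self]
  · refine ⟨1, ?_⟩
    rw [one_smul]
    exact key (h.hE l) (fun i => h.dual l i) h1

/-- the transvections in `M` outside `T` -/
theorem typeF [Finite P] [Fintype ι] [Nonempty ι] (h : Fr P V T M v0 ψ0 ι D E a b φ ε) {c : P} {x : V}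
    {χ : Du V} (hc : Tv c x χ) (hM : c ∈ M) (hT : ∀ i, D i ≠ c) :
    ∃ i j, i ≠ j ∧ ε i (b j) = 1 ∧ ∃ s t : ZMod 2, x = b i + s • a i + (b j + t • a j) := by
  have h0 : ∃ i, χ (a i) = 1 := by
    by_contra hcon
    push Not at hcon
    obtain ⟨i, hi⟩ := h.mem_of_orth hc fun i => eq_zero_of_ne (hcon i)
    exact hT i hi
  obtain ⟨i, hi⟩ := h0
  have hv0 : χ v0 = 0 := (h.mem_iff hc).mp hM
  -- the key step
  have key : ∀ {d : P} {y : V} {η : Du V}, Tv d y η → d ∉ M → (∀ k, η (a k) = if k = i then 1 else 0) →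
      χ y = 1 → ∃ l, ∃ s : ZMod 2, i ≠ l ∧ x = y + (b l + s • a l) ∧ ∀ k, χ (a k) =
        (if k = i then 1 else 0) + (if k = l then 1 else 0) := by
    intro d y η hd hdM hη h1
    have h2 := h.third hc hd h1
    have h3 : c * d * c ∉ M := by
      rw [h.notMem_iff h2, LinearMap.add_apply, hv0, (h.notMem_iff hd).mp hdM, zero_add]
    obtain ⟨l, s, hls⟩ := h.typeE h2 h3
    obtain ⟨l', hl'⟩ := h.exists_single h2 h3
    have hll : l = l' := by
      have h4 := hl' l
      rw [h.symm h2 (h.hD l), hls, map_add, map_smul, h.orth, smul_zero, add_zero, h.dual', if_pos rfl] at h4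
      by_contra hne
      rw [if_neg hne] at h4
      exact one_ne h4
    subst hll
    have h5 : ∀ k, χ (a k) = (if k = i then 1 else 0) + (if k = l then 1 else 0) := by
      intro k
      rw [← hη k, ← hl' k, LinearMap.add_apply, add_comm (χ (a k)), ← add_assoc, add_self, zero_add]
    refine ⟨l, s, ?_, ?_, h5⟩
    · rintro rfl
      have h6 := h5 i
      rw [hi, if_pos rfl, one_add_one] at h6
      exact one_ne h6
    · rw [← hls, ← add_assoc, add_comm y x, add_assoc, add_self, add_zero]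
  -- the value of `ε`
  have fin : ∀ (s : ZMod 2), χ (b i + s • a i) = 1 → (∃ l, ∃ t : ZMod 2, i ≠ l ∧
      x = b i + s • a i + (b l + t • a l) ∧ ∀ k, χ (a k) = (if k = i then 1 else 0) + (if k = l then 1 else 0)) →
      ∃ i j, i ≠ j ∧ ε i (b j) = 1 ∧ ∃ s t : ZMod 2, x = b i + s • a i + (b j + t • a j) := by
    rintro s h1 ⟨l, t, hil, hx, hk⟩
    refine ⟨i, l, hil, ?_, s, t, hx⟩
    have h2 : φ i x = 1 := by rw [← h.symm hc (h.hD i), hi]
    have h3 : χ (b i) = ε i x := h.symm hc (h.hE i)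
    rw [hx, map_add, map_add, map_add, (h.hE i).self, zero_add, map_smul, map_smul, h.dual, h.dual, if_pos rfl,
      if_neg (fun h0 => hil h0.symm), smul_zero, add_zero] at h3
    rw [map_add, map_smul, hi, h3] at h1
    have h4 : s • (1 : ZMod 2) + ε i (b l) + s • (1 : ZMod 2) = ε i (b l) := by
      rw [add_comm (s • (1 : ZMod 2)), add_add_self]
    rwa [h4] at h1
  rcases zmod_cases (χ (b i)) with h1 | h1
  · have h2 : χ (b i + (1 : ZMod 2) • a i) = 1 := by rw [map_add, h1, map_smul, hi, zero_add, smul_eq_mul, one_mul]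
    refine fin 1 h2 ?_
    have h3 := h.hE' i
    rw [add_comm (a i) (b i), ← one_smul (ZMod 2) (a i)] at h3
    obtain ⟨l, t, h4, h5, h6⟩ := key h3 (h.EM' i) (fun k => by
      rw [LinearMap.add_apply, h.orth, h.dual, zero_add]) h2
    exact ⟨l, t, h4, h5, h6⟩
  · have h2 : χ (b i + (0 : ZMod 2) • a i) = 1 := by rw [zero_smul, add_zero, h1]
    refine fin 0 h2 ?_
    have h3 := h.hE i
    have h4 : b i = b i + (0 : ZMod 2) • a i := by rw [zero_smul, add_zero]
    rw [h4] at h3
    obtain ⟨l, t, h4, h5, h6⟩ := key h3 (h.EM i) (fun k => h.dual i k) h2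
    exact ⟨l, t, h4, h5, h6⟩

/-- the relation -/
theorem gsymm [Finite P] (h : Fr P V T M v0 ψ0 ι D E a b φ ε) (i j : ι) : ε i (b j) = ε j (b i) :=
  h.symm (h.hE i) (h.hE j)

theorem gtrans [Finite P] [Fintype ι] [Nonempty ι] (h : Fr P V T M v0 ψ0 ι D E a b φ ε) {i j k : ι} (hij : i ≠ j)
    (hjk : j ≠ k) (hik : i ≠ k) (h1 : ε i (b j) = 1) (h2 : ε j (b k) = 1) : ε i (b k) = 1 := by
  by_contra h3
  have h3' := eq_zero_of_ne h3
  have h4 := h.third (h.hE i) (h.hE j) h1
  have h5 : (ε i + ε j) (b k) = 1 := by rw [LinearMap.add_apply, h3', h2, zero_add]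
  have h6 := h.third h4 (h.hE k) h5
  have h7 : (E i * E j * E i) * E k * (E i * E j * E i) ∉ M := by
    rw [h.notMem_iff h6, LinearMap.add_apply, LinearMap.add_apply, (h.notMem_iff (h.hE i)).mp (h.EM i),
      (h.notMem_iff (h.hE j)).mp (h.EM j), (h.notMem_iff (h.hE k)).mp (h.EM k), one_add_one, zero_add]
  obtain ⟨l, hl⟩ := h.exists_single h6 h7
  have hi := hl i
  have hj := hl j
  rw [LinearMap.add_apply, LinearMap.add_apply, h.dual, h.dual, h.dual, if_pos rfl, if_neg hij, if_neg hik,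
    add_zero, add_zero] at hi
  rw [LinearMap.add_apply, LinearMap.add_apply, h.dual, h.dual, h.dual, if_pos rfl, if_neg hij.symm, if_neg hjk,
    zero_add, add_zero] at hj
  have hil : i = l := by
    by_contra hne
    rw [if_neg hne] at hi
    exact one_ne hi
  have hjl : j = l := by
    by_contra hne
    rw [if_neg hne] at hj
    exact one_ne hj
  exact hij (hil.trans hjl.symm)

end Fr

end Cfsg.Agent.Omega.Transv

end

section


/-!
# Minimal parabolics with transvections: the points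

The centres of the transvections are the sums of two points of the same class.
-/

set_option autoImplicit false

namespace Cfsg.Agent.Omega.Transv

open Subgroup

variable {P : Type*} [Group P] {V : Type*} [AddCommGroup V] [Module (ZMod 2) V] [DistribMulAction P V]

namespace Fr

variable {T : Sylow 2 P} {M : Subgroup P} {v0 : V} {ψ0 : Du V} {ι : Type*} [DecidableEq ι] {D E : ι → P}
  {a b : ι → V} {φ ε : ι → Du V}

/-- the classes -/
def std [Finite P] [Fintype ι] [Nonempty ι] (h : Fr P V T M v0 ψ0 ι D E a b φ ε) : Setoid ι where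
  r i j := i = j ∨ ε i (b j) = 1
  iseqv :=
    { refl := fun i => Or.inl rfl
      symm := by
        rintro i j (hij | hij)
        · exact Or.inl hij.symm
        · exact Or.inr (by rw [h.gsymm, hij])
      trans := by
        rintro i j k (hij | hij) (hjk | hjk)
        · exact Or.inl (hij.trans hjk)
        · exact Or.inr (by rw [hij, hjk])
        · exact Or.inr (by rw [← hjk, hij])
        · by_cases h1 : i = k
          · exact Or.inl h1
          · refine Or.inr (h.gtrans ?_ ?_ h1 hij hjk)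
            · rintro rfl
              rw [(h.hE i).self] at hij
              exact zero_ne_one' hij
            · rintro rfl
              rw [(h.hE j).self] at hjk
              exact zero_ne_one' hjk }

variable [Finite P] [Fintype ι] [Nonempty ι]

/-- the set of the classes -/
abbrev Cl (h : Fr P V T M v0 ψ0 ι D E a b φ ε) : Type _ := Quotient h.std

/-- the class of an index -/
def q (h : Fr P V T M v0 ψ0 ι D E a b φ ε) (i : ι) : h.Cl := Quotient.mk h.std i

theorem q_eq (h : Fr P V T M v0 ψ0 ι D E a b φ ε) {i j : ι} : h.q i = h.q j ↔ i = j ∨ ε i (b j) = 1 :=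
  ⟨fun h1 => Quotient.exact h1, fun h1 => Quotient.sound h1⟩

theorem eps_b (h : Fr P V T M v0 ψ0 ι D E a b φ ε) [DecidableEq h.Cl] (i j : ι) :
    ε i (b j) = if h.q i = h.q j ∧ i ≠ j then 1 else 0 := by
  by_cases hij : i = j
  · subst hij
    rw [(h.hE i).self, if_neg (fun h1 => h1.2 rfl)]
  · by_cases h1 : h.q i = h.q j
    · rw [if_pos ⟨h1, hij⟩]
      exact (h.q_eq.mp h1).resolve_left hij
    · rw [if_neg (fun h2 => h1 h2.1)]
      exact eq_zero_of_ne fun h2 => h1 (h.q_eq.mpr (Or.inr h2))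

/-- the points -/
abbrev Om (h : Fr P V T M v0 ψ0 ι D E a b φ ε) : Type _ := h.Cl ⊕ (ι × ZMod 2)

/-- the class of a point -/
def cl (h : Fr P V T M v0 ψ0 ι D E a b φ ε) : h.Om → h.Cl := Sum.elim id fun p => h.q p.1

open Classical in
/-- the fixed point of a class -/
noncomputable def vc (h : Fr P V T M v0 ψ0 ι D E a b φ ε) (C : h.Cl) : V := ∑ i with h.q i = C, a i

open Classical in
/-- the dual fixed point of a class -/
noncomputable def pc (h : Fr P V T M v0 ψ0 ι D E a b φ ε) (C : h.Cl) : Du V := ∑ i with h.q i = C, φ i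

/-- the vector of a point -/
noncomputable def pt (h : Fr P V T M v0 ψ0 ι D E a b φ ε) : h.Om → V :=
  Sum.elim h.vc fun p => h.vc (h.q p.1) + (b p.1 + p.2 • a p.1)

/-- the functional of a point -/
noncomputable def pd (h : Fr P V T M v0 ψ0 ι D E a b φ ε) : h.Om → Du V :=
  Sum.elim h.pc fun p => h.pc (h.q p.1) + (ε p.1 + p.2 • φ p.1)

theorem phi_vc (h : Fr P V T M v0 ψ0 ι D E a b φ ε) (i : ι) (C : h.Cl) : φ i (h.vc C) = 0 := by
  rw [vc]
  exact h.orth_sum i _

theorem eps_vc (h : Fr P V T M v0 ψ0 ι D E a b φ ε) [DecidableEq h.Cl] (i : ι) (C : h.Cl) :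
    ε i (h.vc C) = if h.q i = C then 1 else 0 := by
  rw [vc, h.dual_sum]
  simp

theorem pc_a (h : Fr P V T M v0 ψ0 ι D E a b φ ε) (i : ι) (C : h.Cl) : h.pc C (a i) = 0 := by
  rw [pc, LinearMap.sum_apply]
  exact Finset.sum_eq_zero fun j _ => h.orth j i

theorem pc_b (h : Fr P V T M v0 ψ0 ι D E a b φ ε) [DecidableEq h.Cl] (i : ι) (C : h.Cl) :
    h.pc C (b i) = if h.q i = C then 1 else 0 := by
  rw [pc, LinearMap.sum_apply]
  simp only [h.dual']
  rw [Finset.sum_ite_eq']
  simp

theorem pc_vc (h : Fr P V T M v0 ψ0 ι D E a b φ ε) (C C' : h.Cl) : h.pc C (h.vc C') = 0 := by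
  rw [vc, map_sum]
  exact Finset.sum_eq_zero fun j _ => h.pc_a j C

@[simp] theorem cl_inl (h : Fr P V T M v0 ψ0 ι D E a b φ ε) (C : h.Cl) : h.cl (Sum.inl C) = C := rfl

@[simp] theorem cl_inr (h : Fr P V T M v0 ψ0 ι D E a b φ ε) (p : ι × ZMod 2) : h.cl (Sum.inr p) = h.q p.1 := rfl

theorem pt_inl (h : Fr P V T M v0 ψ0 ι D E a b φ ε) (C : h.Cl) : h.pt (Sum.inl C) = h.vc C := rfl

theorem pt_inr (h : Fr P V T M v0 ψ0 ι D E a b φ ε) (i : ι) (s : ZMod 2) :
    h.pt (Sum.inr (i, s)) = h.vc (h.q i) + (b i + s • a i) := rfl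

theorem pd_inl (h : Fr P V T M v0 ψ0 ι D E a b φ ε) (C : h.Cl) : h.pd (Sum.inl C) = h.pc C := rfl

theorem pd_inr (h : Fr P V T M v0 ψ0 ι D E a b φ ε) (i : ι) (s : ZMod 2) :
    h.pd (Sum.inr (i, s)) = h.pc (h.q i) + (ε i + s • φ i) := rfl

/-- the Gram matrix -/
theorem pd_pt (h : Fr P V T M v0 ψ0 ι D E a b φ ε) (y z : h.Om) :
    h.pd y (h.pt z) = 1 ↔ h.cl y = h.cl z ∧ y ≠ z := by
  classical
  rcases y with C | ⟨i, s⟩
  · rcases z with C' | ⟨j, t⟩
    · rw [pd_inl, pt_inl, h.pc_vc, cl_inl, cl_inl]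
      refine ⟨fun h1 => absurd h1 zero_ne_one', ?_⟩
      rintro ⟨rfl, h1⟩
      exact absurd rfl h1
    · rw [pd_inl, pt_inr, cl_inl, cl_inr, map_add, map_add, map_smul, h.pc_vc, h.pc_b, h.pc_a, smul_zero, zero_add,
        add_zero]
      by_cases hC : h.q j = C
      · simp [hC]
      · have hC' : ¬ C = h.q j := fun h0 => hC h0.symm
        simp [hC, hC']
  · rcases z with C' | ⟨j, t⟩
    · rw [pd_inr, pt_inl, cl_inl, cl_inr, LinearMap.add_apply, LinearMap.add_apply, LinearMap.smul_apply, h.pc_vc,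
        h.eps_vc, h.phi_vc, smul_zero, zero_add, add_zero]
      by_cases hC : h.q i = C'
      · simp [hC]
      · simp [hC]
    · rw [pd_inr, pt_inr, cl_inr, cl_inr]
      simp only [LinearMap.add_apply, LinearMap.smul_apply, map_add, map_smul, h.pc_vc, h.pc_a, h.phi_vc, h.pc_b,
        h.eps_vc, h.orth, h.dual, h.dual', h.eps_b]
      by_cases hij : i = j
      · subst hij
        rcases zmod_cases s with hs | hs
        · rcases zmod_cases t with ht | ht
          · simp [hs, ht, one_add_one]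
          · simp [hs, ht, one_add_one]
        · rcases zmod_cases t with ht | ht
          · simp [hs, ht, one_add_one]
          · simp [hs, ht, one_add_one]
      · by_cases hq : h.q i = h.q j
        · simp [hij, hq, one_add_one, eq_comm]
        · simp [hij, hq, eq_comm]

omit [Fintype ι] [Nonempty ι] in
theorem hEs (h : Fr P V T M v0 ψ0 ι D E a b φ ε) (i : ι) (s : ZMod 2) :
    ∃ c, c ∉ M ∧ Tv c (b i + s • a i) (ε i + s • φ i) := by
  rcases zmod_cases s with rfl | rfl
  · refine ⟨E i, h.EM i, ?_⟩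
    rw [zero_smul, zero_smul, add_zero, add_zero]
    exact h.hE i
  · refine ⟨_, h.EM' i, ?_⟩
    rw [one_smul, one_smul, add_comm (b i), add_comm (ε i)]
    exact h.hE' i

theorem cancel_mid {W : Type*} [AddCommGroup W] [Module (ZMod 2) W] (u v w : W) : u + v + (u + w) = v + w := by
  rw [add_comm u v, add_assoc, ← add_assoc u u w, add_self, zero_add]

theorem cancel_right {W : Type*} [AddCommGroup W] [Module (ZMod 2) W] (u v : W) : u + v + u = v := by
  rw [add_comm u v, add_add_self]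

/-- sums of two points of a class are centres -/
theorem exists_tv (h : Fr P V T M v0 ψ0 ι D E a b φ ε) {z z' : h.Om} (hne : z ≠ z') (hcl : h.cl z = h.cl z') :
    ∃ c : P, Tv c (h.pt z + h.pt z') (h.pd z + h.pd z') := by
  rcases z with C | ⟨i, s⟩
  · rcases z' with C' | ⟨j, t⟩
    · rw [cl_inl, cl_inl] at hcl
      exact absurd (by rw [hcl]) hne
    · rw [cl_inl, cl_inr] at hcl
      obtain ⟨c, -, hc⟩ := h.hEs j t
      refine ⟨c, ?_⟩
      rw [pt_inl, pd_inl, pt_inr, pd_inr, hcl, ← add_assoc, ← add_assoc (h.pc _), add_self, add_self, zero_add,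
        zero_add]
      exact hc
  · rcases z' with C' | ⟨j, t⟩
    · rw [cl_inl, cl_inr] at hcl
      obtain ⟨c, -, hc⟩ := h.hEs i s
      refine ⟨c, ?_⟩
      rw [pt_inl, pd_inl, pt_inr, pd_inr, ← hcl, cancel_right, cancel_right]
      exact hc
    · rw [cl_inr, cl_inr] at hcl
      rw [pt_inr, pd_inr, pt_inr, pd_inr, ← hcl, cancel_mid, cancel_mid]
      by_cases hij : i = j
      · subst hij
        refine ⟨D i, ?_⟩
        rw [cancel_mid, cancel_mid, ← add_smul, ← add_smul]
        have hst : s + t = 1 := by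
          refine eq_one_of_ne fun h0 => hne ?_
          rw [show s = t from eq_of_add h0]
        rw [hst, one_smul, one_smul]
        exact h.hD i
      · obtain ⟨c, -, hc⟩ := h.hEs i s
        obtain ⟨c', -, hc'⟩ := h.hEs j t
        refine ⟨_, h.third hc hc' ?_⟩
        rw [LinearMap.add_apply, LinearMap.smul_apply, map_add, map_add, map_smul, map_smul, h.dual, h.orth, h.dual',
          if_neg (fun h0 => hij h0.symm), if_neg hij, smul_zero, add_zero, add_zero, smul_zero, add_zero]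
        exact (h.q_eq.mp hcl).resolve_left hij

/-- all centres are sums of two points of a class -/
theorem exists_pair (h : Fr P V T M v0 ψ0 ι D E a b φ ε) {c : P} {x : V} {χ : Du V} (hc : Tv c x χ) :
    ∃ z z' : h.Om, z ≠ z' ∧ h.cl z = h.cl z' ∧ x = h.pt z + h.pt z' := by
  by_cases hM : c ∈ M
  · by_cases hT : ∃ i, D i = c
    · obtain ⟨i, rfl⟩ := hT
      refine ⟨Sum.inr (i, 0), Sum.inr (i, 1), ?_, rfl, ?_⟩
      · intro h0
        exact zero_ne_one' (congrArg Prod.snd (Sum.inr_injective h0))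
      · rw [pt_inr, pt_inr, cancel_mid, cancel_mid, zero_smul, one_smul, zero_add]
        exact (hc.unique (h.hD i)).1
    · push Not at hT
      obtain ⟨i, j, hij, h1, s, t, hx⟩ := h.typeF hc hM hT
      have hq : h.q i = h.q j := h.q_eq.mpr (Or.inr h1)
      refine ⟨Sum.inr (i, s), Sum.inr (j, t), ?_, hq, ?_⟩
      · intro h0
        exact hij (congrArg Prod.fst (Sum.inr_injective h0))
      · rw [pt_inr, pt_inr, ← hq, cancel_mid]
        exact hx
  · obtain ⟨l, s, hx⟩ := h.typeE hc hM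
    refine ⟨Sum.inl (h.q l), Sum.inr (l, s), Sum.inl_ne_inr, rfl, ?_⟩
    rw [pt_inl, pt_inr, ← add_assoc, add_self, zero_add]
    exact hx

/-- transvections act as transpositions -/
theorem smul_pt (h : Fr P V T M v0 ψ0 ι D E a b φ ε) [DecidableEq h.Om] {z z' : h.Om} (hne : z ≠ z')
    (hcl : h.cl z = h.cl z') {c : P} (hc : Tv c (h.pt z + h.pt z') (h.pd z + h.pd z')) (y : h.Om) :
    c • h.pt y = h.pt (Equiv.swap z z' y) := by
  rw [hc.act, LinearMap.add_apply]
  by_cases h1 : y = z
  · subst h1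
    rw [Equiv.swap_apply_left, (h.pd_pt z' y).mpr ⟨hcl.symm, hne.symm⟩]
    have h2 : h.pd y (h.pt y) = 0 := eq_zero_of_ne fun h0 => ((h.pd_pt y y).mp h0).2 rfl
    rw [h2, zero_add, one_smul, ← add_assoc, add_self, zero_add]
  · by_cases h2 : y = z'
    · subst h2
      rw [Equiv.swap_apply_right, (h.pd_pt z y).mpr ⟨hcl, hne⟩]
      have h2 : h.pd y (h.pt y) = 0 := eq_zero_of_ne fun h0 => ((h.pd_pt y y).mp h0).2 rfl
      rw [h2, add_zero, one_smul, add_comm (h.pt z), ← add_assoc, add_self, zero_add]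
    · rw [Equiv.swap_apply_of_ne_of_ne h1 h2]
      by_cases h3 : h.cl z = h.cl y
      · rw [(h.pd_pt z y).mpr ⟨h3, fun h0 => h1 h0.symm⟩, (h.pd_pt z' y).mpr ⟨hcl.symm.trans h3, fun h0 => h2 h0.symm⟩,
          one_add_one, zero_smul, add_zero]
      · have h4 : h.pd z (h.pt y) = 0 := eq_zero_of_ne fun h0 => h3 ((h.pd_pt z y).mp h0).1
        have h5 : h.pd z' (h.pt y) = 0 := eq_zero_of_ne fun h0 => h3 (hcl.trans ((h.pd_pt z' y).mp h0).1)
        rw [h4, h5, zero_add, zero_smul, add_zero]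

end Fr

end Cfsg.Agent.Omega.Transv

end

section


/-!
# Minimal parabolics with transvections: the action on the points
-/

set_option autoImplicit false

namespace Cfsg.Agent.Omega.Transv

open Subgroup

variable {P : Type*} [Group P] {V : Type*} [AddCommGroup V] [Module (ZMod 2) V] [DistribMulAction P V]

namespace Fr

variable {T : Sylow 2 P} {M : Subgroup P} {v0 : V} {ψ0 : Du V} {ι : Type*} [DecidableEq ι] {D E : ι → P}
  {a b : ι → V} {φ ε : ι → Du V} [Finite P] [Fintype ι] [Nonempty ι]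

theorem exists_ne (h : Fr P V T M v0 ψ0 ι D E a b φ ε) (y : h.Om) : ∃ z, z ≠ y ∧ h.cl z = h.cl y := by
  rcases y with C | ⟨i, s⟩
  · obtain ⟨i, rfl⟩ := Quotient.exists_rep C
    exact ⟨Sum.inr (i, 0), Sum.inr_ne_inl, rfl⟩
  · exact ⟨Sum.inl (h.q i), Sum.inl_ne_inr, rfl⟩

/-- the points are different -/
theorem pt_inj (h : Fr P V T M v0 ψ0 ι D E a b φ ε) : Function.Injective h.pt := by
  intro y z hyz
  by_contra hne
  have h0 : h.pd y (h.pt y) = 0 := eq_zero_of_ne fun h0 => ((h.pd_pt y y).mp h0).2 rfl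
  by_cases hcl : h.cl y = h.cl z
  · have h1 := (h.pd_pt y z).mpr ⟨hcl, hne⟩
    rw [← hyz, h0] at h1
    exact zero_ne_one' h1
  · obtain ⟨u, hu, hcu⟩ := h.exists_ne y
    have h1 := (h.pd_pt u y).mpr ⟨hcu, hu⟩
    rw [hyz] at h1
    exact hcl (hcu.symm.trans ((h.pd_pt u z).mp h1).1)

/-- the sum over a class is zero -/
theorem sum_pt (h : Fr P V T M v0 ψ0 ι D E a b φ ε) (C : h.Cl) [Fintype {z : h.Om // h.cl z = C}] :
    ∑ z : {z : h.Om // h.cl z = C}, h.pt z = 0 := by
  classical
  let hfin : Fintype h.Cl := Fintype.ofFinite _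
  have h1 : ∑ z : {z : h.Om // h.cl z = C}, h.pt z = ∑ z : h.Om, if h.cl z = C then h.pt z else 0 := by
    rw [← Finset.sum_filter]
    exact (Finset.sum_subtype _ (fun z => by simp) h.pt).symm
  rw [h1, Fintype.sum_sum_type, Fintype.sum_prod_type]
  have h2 : ∑ C' : h.Cl, (if h.cl (Sum.inl C') = C then h.pt (Sum.inl C') else 0) = h.vc C := by
    refine (Finset.sum_eq_single C (fun C' _ hC' => if_neg hC') fun h0 => absurd (Finset.mem_univ C) h0).trans ?_
    exact if_pos rfl
  have h3 : ∀ i : ι, ∑ s : ZMod 2, (if h.cl (Sum.inr (i, s)) = C then h.pt (Sum.inr (i, s)) else 0) =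
      if h.q i = C then a i else 0 := by
    intro i
    by_cases hi : h.q i = C
    · rw [if_pos hi]
      refine (Finset.sum_congr rfl fun s _ => if_pos hi).trans ?_
      have h4 : ∑ s : ZMod 2, h.pt (Sum.inr (i, s)) = h.pt (Sum.inr (i, 0)) + h.pt (Sum.inr (i, 1)) :=
        Fin.sum_univ_two _
      rw [h4, pt_inr, pt_inr, cancel_mid, cancel_mid, zero_smul, one_smul, zero_add]
    · rw [if_neg hi]
      exact Finset.sum_eq_zero fun s _ => if_neg hi
  have h5 : (∑ i : ι, ∑ s : ZMod 2, (if h.cl (Sum.inr (i, s)) = C then h.pt (Sum.inr (i, s)) else 0)) = h.vc C := by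
    rw [Finset.sum_congr rfl fun i _ => h3 i, ← Finset.sum_filter]
    rw [vc]
  rw [h2, h5, add_self]

omit [Nonempty ι] in
/-- `T` acts on its own transvections -/
theorem exists_f (h : Fr P V T M v0 ψ0 ι D E a b φ ε) {t : P} (ht : t ∈ T) :
    ∃ f : Equiv.Perm ι, ∀ i, t • a i = a (f i) := by
  have h2 : ∀ i, ∃ j, t • a i = a j := by
    intro i
    have h3 := (h.hD i).conj t
    obtain ⟨j, hj⟩ := h.surj _ h3.mem (mul_mem (mul_mem ht (h.DT i)) ((T : Subgroup P).inv_mem ht))
    refine ⟨j, ?_⟩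
    rw [← hj] at h3
    exact (h3.unique (h.hD j)).1
  choose f hf using h2
  have hinj : Function.Injective f := by
    intro i j hij
    have h4 : t • a i = t • a j := by rw [hf, hf, hij]
    exact h.a_inj (smul_left_cancel t h4)
  exact ⟨Equiv.ofBijective f (Finite.injective_iff_bijective.mp hinj), hf⟩

theorem exists_s (h : Fr P V T M v0 ψ0 ι D E a b φ ε) {t : P} (ht : t ∈ T) {f : Equiv.Perm ι}
    (hf : ∀ i, t • a i = a (f i)) : ∃ s : ι → ZMod 2, ∀ i, t • b i = b (f i) + s i • a (f i) := by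
  have h1 : ∀ i, ∃ s : ZMod 2, t • b i = b (f i) + s • a (f i) := by
    intro i
    have h2 := (h.hE i).conj t
    have h3 : t * E i * t⁻¹ ∉ M := by
      intro h4
      have h5 := M.mul_mem (M.mul_mem (M.inv_mem (h.le ht)) h4) (h.le ht)
      have h6 : t⁻¹ * (t * E i * t⁻¹) * t = E i := by group
      rw [h6] at h5
      exact h.EM i h5
    obtain ⟨l, s, hl⟩ := h.typeE h2 h3
    have h4 : l = f i := by
      have h5 : (dua t (ε i)) (a (f i)) = 1 := by
        rw [← hf, dua_apply, inv_smul_smul, h.dual, if_pos rfl]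
      rw [h.symm h2 (h.hD (f i)), hl, map_add, map_smul, h.orth, smul_zero, add_zero, h.dual'] at h5
      by_contra hne
      rw [if_neg (fun h0 => hne h0.symm)] at h5
      exact zero_ne_one' h5
    subst h4
    exact ⟨s, hl⟩
  choose s hs using h1
  exact ⟨s, hs⟩

theorem q_iff (h : Fr P V T M v0 ψ0 ι D E a b φ ε) {t : P} {f : Equiv.Perm ι}
    (hf : ∀ i, t • a i = a (f i)) {s : ι → ZMod 2} (hs : ∀ i, t • b i = b (f i) + s i • a (f i)) (i j : ι) :
    h.q i = h.q j ↔ h.q (f i) = h.q (f j) := by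
  by_cases hij : i = j
  · subst hij
    exact ⟨fun _ => rfl, fun _ => rfl⟩
  · have hij' : f i ≠ f j := fun h0 => hij (f.injective h0)
    have h1 : ε i (b j) = ε (f j) (b (f i)) := by
      have h2 : ε i (b j) = (dua t (ε i)) (t • b j) := by rw [dua_apply, inv_smul_smul]
      have h3 := (h.hE i).conj t
      have h4 : (dua t (ε i)) (a (f j)) = 0 := by
        rw [← hf, dua_apply, inv_smul_smul, h.dual, if_neg (fun h0 => hij h0.symm)]
      rw [h2, hs, map_add, map_smul, h4, smul_zero, add_zero, h.symm h3 (h.hE (f j)), hs, map_add, map_smul, h.dual,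
        if_neg hij', smul_zero, add_zero]
    rw [h.q_eq, h.q_eq, h1, h.gsymm (f j)]
    constructor
    · rintro (h0 | h0)
      · exact absurd h0 hij
      · exact Or.inr h0
    · rintro (h0 | h0)
      · exact absurd h0 hij'
      · exact Or.inr h0

theorem smul_vc (h : Fr P V T M v0 ψ0 ι D E a b φ ε) {t : P} {f : Equiv.Perm ι}
    (hf : ∀ i, t • a i = a (f i)) (hq : ∀ i j, h.q i = h.q j ↔ h.q (f i) = h.q (f j)) (i : ι) :
    t • h.vc (h.q i) = h.vc (h.q (f i)) := by
  classical
  rw [vc, vc, Finset.smul_sum]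
  refine Finset.sum_equiv f ?_ ?_
  · intro j
    simp only [Finset.mem_filter, Finset.mem_univ, true_and]
    exact hq j i
  · intro j _
    exact hf j

/-- acts on the points -/
def Good (h : Fr P V T M v0 ψ0 ι D E a b φ ε) (g : P) : Prop :=
  ∃ π : Equiv.Perm h.Om, (∀ z, g • h.pt z = h.pt (π z)) ∧ ∀ z z', h.cl z = h.cl z' ↔ h.cl (π z) = h.cl (π z')

theorem good_T (h : Fr P V T M v0 ψ0 ι D E a b φ ε) {t : P} (ht : t ∈ T) : h.Good t := by
  obtain ⟨f, hf⟩ := h.exists_f ht
  obtain ⟨s, hs⟩ := h.exists_s ht hf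
  have hq := h.q_iff hf hs
  have h1 : ∀ z, ∃ z', t • h.pt z = h.pt z' ∧ ∃ i, h.cl z = h.q i ∧ h.cl z' = h.q (f i) := by
    intro z
    rcases z with C | ⟨i, r⟩
    · obtain ⟨i, rfl⟩ := Quotient.exists_rep C
      refine ⟨Sum.inl (h.q (f i)), ?_, i, rfl, rfl⟩
      rw [pt_inl, pt_inl]
      exact h.smul_vc hf hq i
    · refine ⟨Sum.inr (f i, s i + r), ?_, i, rfl, rfl⟩
      rw [pt_inr, pt_inr, smul_add, smul_add, smul_zmod, h.smul_vc hf hq, hf, hs, add_smul]
      abel
  choose π hπ i h2 h3 using h1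
  have hinj : Function.Injective π := by
    intro z z' hz
    have h4 : t • h.pt z = t • h.pt z' := by rw [hπ, hπ, hz]
    exact h.pt_inj (smul_left_cancel t h4)
  refine ⟨Equiv.ofBijective π (Finite.injective_iff_bijective.mp hinj), hπ, fun z z' => ?_⟩
  change h.cl z = h.cl z' ↔ h.cl (π z) = h.cl (π z')
  rw [h2 z, h2 z', h3 z, h3 z', hq]

theorem good_E (h : Fr P V T M v0 ψ0 ι D E a b φ ε) (l : ι) : h.Good (E l) := by
  classical
  have h1 : h.pt (Sum.inl (h.q l)) + h.pt (Sum.inr (l, 0)) = b l := by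
    rw [pt_inl, pt_inr, ← add_assoc, add_self, zero_add, zero_smul, add_zero]
  have h2 : h.pd (Sum.inl (h.q l)) + h.pd (Sum.inr (l, 0)) = ε l := by
    rw [pd_inl, pd_inr, ← add_assoc, add_self, zero_add, zero_smul, add_zero]
  have h3 := h.hE l
  rw [← h1, ← h2] at h3
  have hc : h.cl (Sum.inl (h.q l)) = h.cl (Sum.inr (l, (0 : ZMod 2))) := rfl
  refine ⟨Equiv.swap (Sum.inl (h.q l)) (Sum.inr (l, 0)), h.smul_pt Sum.inl_ne_inr hc h3, fun z z' => ?_⟩
  have h4 : ∀ z, h.cl (Equiv.swap (Sum.inl (h.q l)) (Sum.inr (l, 0)) z) = h.cl z := by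
    intro z
    by_cases h5 : z = Sum.inl (h.q l)
    · subst h5
      rw [Equiv.swap_apply_left]
      rfl
    · by_cases h6 : z = Sum.inr (l, 0)
      · subst h6
        rw [Equiv.swap_apply_right]
        rfl
      · rw [Equiv.swap_apply_of_ne_of_ne h5 h6]
  rw [h4, h4]

/-- the elements acting on the points form a subgroup -/
def goodSub (h : Fr P V T M v0 ψ0 ι D E a b φ ε) : Subgroup P where
  carrier := {g | h.Good g}
  one_mem' := ⟨1, fun z => by rw [one_smul, Equiv.Perm.one_apply], fun z z' => Iff.rfl⟩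
  mul_mem' := by
    rintro g k ⟨π, h1, h2⟩ ⟨ρ, h3, h4⟩
    refine ⟨π * ρ, fun z => ?_, fun z z' => ?_⟩
    · rw [mul_smul, h3, h1, Equiv.Perm.mul_apply]
    · rw [Equiv.Perm.mul_apply, Equiv.Perm.mul_apply, ← h2, ← h4]
  inv_mem' := by
    rintro g ⟨π, h1, h2⟩
    refine ⟨π.symm, fun z => ?_, fun z z' => ?_⟩
    · rw [inv_smul_eq_iff, h1, Equiv.apply_symm_apply]
    · rw [h2 (π.symm z), Equiv.apply_symm_apply, Equiv.apply_symm_apply]

theorem good (h : Fr P V T M v0 ψ0 ι D E a b φ ε) (g : P) : h.Good g := by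
  have h1 : (T : Subgroup P) ≤ h.goodSub := fun t ht => h.good_T ht
  obtain ⟨l⟩ := ‹Nonempty ι›
  have h2 : h.goodSub = ⊤ := by
    rcases h.max _ h1 with h3 | h3
    · exact absurd (h3 (h.good_E l)) (h.EM l)
    · exact h3
  have h3 : g ∈ h.goodSub := by
    rw [h2]
    exact mem_top g
  exact h3

/-- `T` acts transitively on the classes, and permutes the fixed points -/
theorem trans_vc (h : Fr P V T M v0 ψ0 ι D E a b φ ε) (C C' : h.Cl) : ∃ t ∈ T, t • h.vc C = h.vc C' := by
  obtain ⟨i, rfl⟩ := Quotient.exists_rep C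
  obtain ⟨j, rfl⟩ := Quotient.exists_rep C'
  obtain ⟨t, ht, htj⟩ := h.trans i j
  obtain ⟨f, hf⟩ := h.exists_f ht
  obtain ⟨s, hs⟩ := h.exists_s ht hf
  have hfi : f i = j := by
    have h1 := (h.hD i).conj t
    rw [← htj] at h1
    have h2 := (h1.unique (h.hD j)).1
    rw [hf] at h2
    exact h.a_inj h2
  refine ⟨t, ht, ?_⟩
  rw [← hfi]
  exact h.smul_vc hf (h.q_iff hf hs) i

theorem smul_vc' (h : Fr P V T M v0 ψ0 ι D E a b φ ε) {t : P} (ht : t ∈ T) (C : h.Cl) :
    ∃ C', t • h.vc C = h.vc C' := by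
  obtain ⟨i, rfl⟩ := Quotient.exists_rep C
  obtain ⟨f, hf⟩ := h.exists_f ht
  obtain ⟨s, hs⟩ := h.exists_s ht hf
  exact ⟨_, h.smul_vc hf (h.q_iff hf hs) i⟩

/-- all classes have the same size -/
theorem card_q (h : Fr P V T M v0 ψ0 ι D E a b φ ε) (C C' : h.Cl) :
    Nat.card {i // h.q i = C} = Nat.card {i // h.q i = C'} := by
  obtain ⟨i, rfl⟩ := Quotient.exists_rep C
  obtain ⟨j, rfl⟩ := Quotient.exists_rep C'
  obtain ⟨t, ht, htj⟩ := h.trans i j
  obtain ⟨f, hf⟩ := h.exists_f ht
  obtain ⟨s, hs⟩ := h.exists_s ht hf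
  have hfi : f i = j := by
    have h1 := (h.hD i).conj t
    rw [← htj] at h1
    have h2 := (h1.unique (h.hD j)).1
    rw [hf] at h2
    exact h.a_inj h2
  refine Nat.card_congr (f.subtypeEquiv fun k => ?_)
  have h1 := h.q_iff hf hs k i
  rw [hfi] at h1
  exact h1

end Fr

end Cfsg.Agent.Omega.Transv

end

section


/-!
# Minimal parabolics with transvections: the theorem

`Hyp.main`: a minimal parabolic group generated over `F₂` with transvections is a product of symmetric groups of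
degree `2 ^ m + 1`, permuted transitively by a Sylow 2-subgroup, and its module is the sum of the even-subset modules.
-/

set_option autoImplicit false

namespace Cfsg.Agent.Omega.Transv

open Subgroup

variable {P : Type*} [Group P] {V : Type*} [AddCommGroup V] [Module (ZMod 2) V] [DistribMulAction P V]

open Classical in
/-- `V` is the direct sum of `k` even-subset modules with points `w i x`, `x ∈ Fin (2 ^ m + 1)` (the sum of the points
of each summand is zero), and the transvections of `P` are the transpositions of the points of one summand. -/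
structure SymFrame (P V : Type*) [Group P] [AddCommGroup V] [Module (ZMod 2) V] [DistribMulAction P V]
    (T : Sylow 2 P) (k m : ℕ) (w : Fin k → Fin (2 ^ m + 1) → V) : Prop where
  k_pos : 0 < k
  m_pos : 0 < m
  /-- the points of a summand have sum zero -/
  sum_zero : ∀ i, ∑ x, w i x = 0
  /-- this is the only relation -/
  indep : LinearIndependent (ZMod 2) fun p : Fin k × Fin (2 ^ m) => w p.1 p.2.succ
  span : Submodule.span (ZMod 2) (Set.range fun p : Fin k × Fin (2 ^ m) => w p.1 p.2.succ) = ⊤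
  /-- the transposition `(x y)` of the summand `i` is a transvection with centre `w i x + w i y` -/
  swap : ∀ i x y, x ≠ y → ∃ d : P, ∃ χ : Du V, Tv d (w i x + w i y) χ ∧
    ∀ j z, (d • w j z = w j (if j = i then Equiv.swap x y z else z)) ∧ (χ (w j z) = 1 ↔ j = i ∧ (z = x ∨ z = y))
  /-- there are no other transvections -/
  all : ∀ (d : P) (a : V) (χ : Du V), Tv d a χ → ∃ i x y, x ≠ y ∧ a = w i x + w i y ∧
    ∀ j z, (d • w j z = w j (if j = i then Equiv.swap x y z else z)) ∧ (χ (w j z) = 1 ↔ j = i ∧ (z = x ∨ z = y))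
  /-- `P` permutes the points -/
  perm : ∀ g : P, ∃ (σ : Equiv.Perm (Fin k)) (τ : Fin k → Equiv.Perm (Fin (2 ^ m + 1))),
    ∀ i x, g • w i x = w (σ i) (τ i x)
  /-- `T` fixes the points `0` -/
  fix0 : ∀ t ∈ T, ∀ i, ∃ j, t • w i 0 = w j 0
  /-- `T` permutes the summands transitively -/
  trans : ∀ i j, ∃ t ∈ T, t • w i 0 = w j 0
  /-- generation -/
  gen : closure (DD P V) ⊔ (T : Subgroup P) = ⊤
  /-- the transvections are conjugate -/
  conj : ∀ d ∈ DD P V, ∀ e ∈ DD P V, ∃ g, e = g * d * g⁻¹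
  /-- a transvection is determined by its centre -/
  eq_of_ctr : ∀ (d e : P) (a : V) (χ χ' : Du V), Tv d a χ → Tv e a χ' → d = e

namespace Fr

variable {T : Sylow 2 P} {M : Subgroup P} {v0 : V} {ψ0 : Du V} {ι : Type*} [DecidableEq ι] {D E : ι → P}
  {a b : ι → V} {φ ε : ι → Du V} [Finite P] [Fintype ι] [Nonempty ι]

/-- the number of the indices is a power of 2 -/
theorem card_index [Finite V] (h : Fr P V T M v0 ψ0 ι D E a b φ ε) : ∃ n, Nat.card ι = 2 ^ n := by
  have : Fact (Nat.Prime 2) := ⟨Nat.prime_two⟩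
  obtain ⟨i0⟩ := ‹Nonempty ι›
  obtain ⟨n, hn⟩ := T.isPGroup'.card_orbit (a i0)
  refine ⟨n, ?_⟩
  rw [← hn]
  have h1 : Set.range a = MulAction.orbit T (a i0) := by
    ext x
    constructor
    · rintro ⟨j, rfl⟩
      obtain ⟨t, ht, htj⟩ := h.trans i0 j
      refine ⟨⟨t, ht⟩, ?_⟩
      have h1 := (h.hD i0).conj t
      rw [← htj] at h1
      exact (h1.unique (h.hD j)).1
    · rintro ⟨⟨t, ht⟩, rfl⟩
      obtain ⟨f, hf⟩ := h.exists_f ht
      exact ⟨f i0, (hf i0).symm⟩
  rw [← h1]
  exact Nat.card_congr (Equiv.ofInjective a fun i j hij => h.a_inj hij)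

theorem card_fiber (h : Fr P V T M v0 ψ0 ι D E a b φ ε) (C : h.Cl) :
    Nat.card {z : h.Om // h.cl z = C} = 2 * Nat.card {i // h.q i = C} + 1 := by
  have e1 : {z : h.Om // h.cl z = C} ≃ {C' : h.Cl // C' = C} ⊕ {p : ι × ZMod 2 // h.q p.1 = C} :=
    Equiv.subtypeSum
  have e2 : {p : ι × ZMod 2 // h.q p.1 = C} ≃ {i // h.q i = C} × ZMod 2 :=
    Equiv.prodSubtypeFstEquivSubtypeProd (p := fun i => h.q i = C)
  rw [Nat.card_congr e1, Nat.card_sum, Nat.card_congr e2, Nat.card_prod, Nat.card_zmod, Nat.card_unique]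
  ring

theorem exists_card [Finite V] (h : Fr P V T M v0 ψ0 ι D E a b φ ε) :
    ∃ m, 0 < m ∧ ∀ C : h.Cl, Nat.card {z : h.Om // h.cl z = C} = 2 ^ m + 1 := by
  classical
  obtain ⟨n, hn⟩ := h.card_index
  obtain ⟨i0⟩ := ‹Nonempty ι›
  have h1 : Nat.card ι = Nat.card h.Cl * Nat.card {i // h.q i = h.q i0} := by
    let hfin : Fintype h.Cl := Fintype.ofFinite _
    rw [Nat.card_congr (Equiv.sigmaFiberEquiv h.q).symm, Nat.card_sigma]
    rw [Finset.sum_congr rfl fun C _ => h.card_q C (h.q i0), Finset.sum_const, Finset.card_univ,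
      Nat.card_eq_fintype_card (α := h.Cl), smul_eq_mul]
  have h2 : Nat.card {i // h.q i = h.q i0} ∣ 2 ^ n := by
    rw [← hn, h1]
    exact Nat.dvd_mul_left _ _
  obtain ⟨r, -, hr⟩ := (Nat.dvd_prime_pow Nat.prime_two).mp h2
  refine ⟨r + 1, Nat.succ_pos r, fun C => ?_⟩
  rw [h.card_fiber, h.card_q C (h.q i0), hr, pow_succ]
  ring

/-- a numbering of the points -/
theorem exists_num [Finite V] (h : Fr P V T M v0 ψ0 ι D E a b φ ε) :
    ∃ (k m : ℕ) (c : Fin k ≃ h.Cl) (e : Fin k × Fin (2 ^ m + 1) ≃ h.Om), 0 < k ∧ 0 < m ∧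
      (∀ p, h.cl (e p) = c p.1) ∧ ∀ i, e (i, 0) = Sum.inl (c i) := by
  classical
  obtain ⟨m, hm, hcard⟩ := h.exists_card
  let c : Fin (Nat.card h.Cl) ≃ h.Cl := (Finite.equivFin h.Cl).symm
  have h1 : ∀ C : h.Cl, ∃ f : Fin (2 ^ m + 1) ≃ {z : h.Om // h.cl z = C}, f 0 = ⟨Sum.inl C, rfl⟩ := by
    intro C
    have e1 : Fin (2 ^ m + 1) ≃ {z : h.Om // h.cl z = C} := (Finite.equivFinOfCardEq (hcard C)).symm
    refine ⟨(Equiv.swap 0 (e1.symm ⟨Sum.inl C, rfl⟩)).trans e1, ?_⟩
    rw [Equiv.trans_apply, Equiv.swap_apply_left, Equiv.apply_symm_apply]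
  choose f hf using h1
  have hbij : Function.Bijective fun p : Fin (Nat.card h.Cl) × Fin (2 ^ m + 1) => ((f (c p.1) p.2 : _) : h.Om) := by
    constructor
    · rintro ⟨i, x⟩ ⟨j, y⟩ hxy
      have hxy' : ((f (c i) x : _) : h.Om) = f (c j) y := hxy
      have h2 : c i = c j := by
        rw [← (f (c i) x).2, ← (f (c j) y).2, hxy']
      have h3 : i = j := c.injective h2
      subst h3
      have h4 : x = y := (f (c i)).injective (Subtype.ext hxy')
      rw [h4]
    · intro z
      refine ⟨(c.symm (h.cl z), (f (c (c.symm (h.cl z)))).symm ⟨z, by rw [Equiv.apply_symm_apply]⟩), ?_⟩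
      simp
  refine ⟨Nat.card h.Cl, m, c, Equiv.ofBijective _ hbij, ?_, hm, fun p => ?_, fun i => ?_⟩
  · obtain ⟨i⟩ := ‹Nonempty ι›
    have : Nonempty h.Cl := ⟨h.q i⟩
    exact Nat.card_pos
  · exact (f (c p.1) p.2).2
  · change ((f (c i) 0 : _) : h.Om) = Sum.inl (c i)
    rw [hf]

omit [Fintype ι] [Nonempty ι] in
/-- the centres span the module -/
theorem span_eq (h : Fr P V T M v0 ψ0 ι D E a b φ ε) (W : Submodule (ZMod 2) V)
    (hW : ∀ (c : P) (x : V) (χ : Du V), Tv c x χ → x ∈ W) : W = ⊤ := by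
  by_contra hne
  obtain ⟨f, hf, hker⟩ := Submodule.exists_le_ker_of_lt_top W (lt_top_iff_ne_top.mpr hne)
  apply hf
  set N : Subgroup P := normalClosure (DD P V) with hN
  obtain ⟨d, hd⟩ := h.tv
  have hdN : d ∈ N := subset_normalClosure hd
  refine h.fixd N normalClosure_normal (even_of_mem h.faith hd hdN) f ?_
  intro n hn
  have h1 : N ≤ { carrier := {g : P | ∀ v : V, f (g • v) = f v}
                  one_mem' := fun v => by rw [one_smul]
                  mul_mem' := fun {x y} hx hy v => by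
                    rw [mul_smul, hx, hy]
                  inv_mem' := fun {x} hx v => by
                    rw [← hx (x⁻¹ • v), smul_inv_smul] } := by
    rw [hN, normalClosure, closure_le]
    intro x hx v
    rw [Group.mem_conjugatesOfSet_iff] at hx
    obtain ⟨y, hy, hc'⟩ := hx
    obtain ⟨g, hg⟩ := isConj_iff.mp hc'
    obtain ⟨a', χ, ht⟩ := mem_DD_conj hy g
    rw [hg] at ht
    have h2 : f a' = 0 := hker (hW x a' χ ht)
    rw [ht.act, map_add, map_smul, h2, smul_zero, add_zero]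
  exact h1 hn

theorem main [Finite V] (h : Fr P V T M v0 ψ0 ι D E a b φ ε) :
    ∃ (k m : ℕ) (w : Fin k → Fin (2 ^ m + 1) → V), SymFrame P V T k m w := by
  classical
  obtain ⟨k, m, c, e, hk, hm, hcl, he0⟩ := h.exists_num
  set w : Fin k → Fin (2 ^ m + 1) → V := fun i x => h.pt (e (i, x)) with hw
  -- the Gram matrix
  have hG : ∀ i x j z, h.pd (e (i, x)) (h.pt (e (j, z))) = 1 ↔ i = j ∧ x ≠ z := by
    intro i x j z
    rw [h.pd_pt, hcl, hcl, c.injective.eq_iff, e.injective.ne_iff]
    constructor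
    · rintro ⟨h1, h2⟩
      refine ⟨h1, fun h3 => h2 ?_⟩
      have h1' : i = j := h1
      rw [h1', h3]
    · rintro ⟨h1, h2⟩
      exact ⟨h1, fun h3 => h2 (congrArg Prod.snd h3)⟩
  have hG' : ∀ i x y j z, x ≠ y → ((h.pd (e (i, x)) + h.pd (e (i, y))) (h.pt (e (j, z))) = 1 ↔
      j = i ∧ (z = x ∨ z = y)) := by
    intro i x y j z hxy
    rw [LinearMap.add_apply]
    by_cases hij : i = j
    · by_cases hx : z = x
      · have h1 : h.pd (e (i, x)) (h.pt (e (j, z))) = 0 := eq_zero_of_ne fun h0 => ((hG i x j z).mp h0).2 hx.symm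
        have h2 : h.pd (e (i, y)) (h.pt (e (j, z))) = 1 := (hG i y j z).mpr ⟨hij, fun h0 => hxy (hx.symm.trans h0.symm)⟩
        rw [h1, h2, zero_add]
        exact ⟨fun _ => ⟨hij.symm, Or.inl hx⟩, fun _ => rfl⟩
      · by_cases hy : z = y
        · have h1 : h.pd (e (i, x)) (h.pt (e (j, z))) = 1 := (hG i x j z).mpr ⟨hij, fun h0 => hx h0.symm⟩
          have h2 : h.pd (e (i, y)) (h.pt (e (j, z))) = 0 := eq_zero_of_ne fun h0 => ((hG i y j z).mp h0).2 hy.symm
          rw [h1, h2, add_zero]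
          exact ⟨fun _ => ⟨hij.symm, Or.inr hy⟩, fun _ => rfl⟩
        · have h1 : h.pd (e (i, x)) (h.pt (e (j, z))) = 1 := (hG i x j z).mpr ⟨hij, fun h0 => hx h0.symm⟩
          have h2 : h.pd (e (i, y)) (h.pt (e (j, z))) = 1 := (hG i y j z).mpr ⟨hij, fun h0 => hy h0.symm⟩
          rw [h1, h2, one_add_one]
          refine ⟨fun h0 => absurd h0 zero_ne_one', ?_⟩
          rintro ⟨-, h0 | h0⟩
          · exact absurd h0 hx
          · exact absurd h0 hy
    · have h1 : h.pd (e (i, x)) (h.pt (e (j, z))) = 0 := eq_zero_of_ne fun h0 => hij ((hG i x j z).mp h0).1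
      have h2 : h.pd (e (i, y)) (h.pt (e (j, z))) = 0 := eq_zero_of_ne fun h0 => hij ((hG i y j z).mp h0).1
      rw [h1, h2, add_zero]
      exact ⟨fun h0 => absurd h0 zero_ne_one', fun h0 => absurd h0.1.symm hij⟩
  -- the transpositions
  have hsw : ∀ i x y, x ≠ y → ∀ (d : P), Tv d (w i x + w i y) (h.pd (e (i, x)) + h.pd (e (i, y))) →
      ∀ j z, d • w j z = w j (if j = i then Equiv.swap x y z else z) := by
    intro i x y hxy d hd j z
    have hne : e (i, x) ≠ e (i, y) := fun h0 => hxy (congrArg Prod.snd (e.injective h0))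
    have h1 := h.smul_pt hne (by rw [hcl, hcl]) hd (e (j, z))
    change d • h.pt (e (j, z)) = _
    rw [h1]
    by_cases hji : j = i
    · subst hji
      rw [if_pos rfl]
      by_cases hzx : z = x
      · subst hzx
        rw [Equiv.swap_apply_left, Equiv.swap_apply_left]
      · by_cases hzy : z = y
        · subst hzy
          rw [Equiv.swap_apply_right, Equiv.swap_apply_right]
        · rw [Equiv.swap_apply_of_ne_of_ne hzx hzy, Equiv.swap_apply_of_ne_of_ne]
          · exact fun h0 => hzx (congrArg Prod.snd (e.injective h0))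
          · exact fun h0 => hzy (congrArg Prod.snd (e.injective h0))
    · rw [if_neg hji, Equiv.swap_apply_of_ne_of_ne]
      · exact fun h0 => hji (congrArg Prod.fst (e.injective h0))
      · exact fun h0 => hji (congrArg Prod.fst (e.injective h0))
  have hsum : ∀ i, ∑ x, w i x = 0 := by
    intro i
    have hf : ∀ x, h.cl (e (i, x)) = c i := fun x => hcl (i, x)
    have hbij : Function.Bijective fun x : Fin (2 ^ m + 1) => (⟨e (i, x), hf x⟩ : {z : h.Om // h.cl z = c i}) := by
      constructor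
      · intro x y hxy
        exact congrArg Prod.snd (e.injective (congrArg Subtype.val hxy))
      · rintro ⟨z, hz⟩
        obtain ⟨⟨j, x⟩, rfl⟩ := e.surjective z
        have h1 : j = i := by
          rw [hcl] at hz
          exact c.injective hz
        subst h1
        exact ⟨x, rfl⟩
    let hfin : Fintype {z : h.Om // h.cl z = c i} := Fintype.ofFinite _
    rw [← h.sum_pt (c i)]
    exact hbij.sum_comp fun z => h.pt z.1
  have hw0 : ∀ i, w i 0 = ∑ x : Fin (2 ^ m), w i x.succ := by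
    intro i
    have h1 := hsum i
    rw [Fin.sum_univ_succ] at h1
    exact eq_of_add h1
  refine ⟨k, m, w, hk, hm, hsum, ?_, ?_, ?_, ?_, ?_, ?_, ?_, ?_, h.all_conj, fun _ _ _ _ _ h1 h2 => h.eq_of_ctr h1 h2⟩
  · -- independence
    rw [Fintype.linearIndependent_iff]
    rintro g hg ⟨i, x⟩
    have h1 : (h.pd (e (i, x.succ)) + h.pd (e (i, 0))) (∑ p : Fin k × Fin (2 ^ m), g p • w p.1 p.2.succ) = 0 := by
      rw [hg, map_zero]
    rw [map_sum, Finset.sum_eq_single (i, x)] at h1
    · rw [map_smul] at h1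
      have h2 := (hG' i x.succ 0 i x.succ (Fin.succ_ne_zero x)).mpr ⟨rfl, Or.inl rfl⟩
      have h3 : (h.pd (e (i, x.succ)) + h.pd (e (i, 0))) (w i x.succ) = 1 := h2
      rw [h3, smul_eq_mul, mul_one] at h1
      exact h1
    · rintro ⟨j, y⟩ - hne
      rw [map_smul]
      have h2 : (h.pd (e (i, x.succ)) + h.pd (e (i, 0))) (w j y.succ) = 0 := by
        refine eq_zero_of_ne fun h0 => ?_
        obtain ⟨h3, h4⟩ := (hG' i x.succ 0 j y.succ (Fin.succ_ne_zero x)).mp h0
        rcases h4 with h4 | h4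
        · exact hne (by rw [h3, Fin.succ_injective _ h4])
        · exact Fin.succ_ne_zero y h4
      rw [h2, smul_zero]
    · intro h0
      exact absurd (Finset.mem_univ _) h0
  · -- span
    refine h.span_eq _ fun d x χ hd => ?_
    obtain ⟨z, z', -, -, rfl⟩ := h.exists_pair hd
    have h1 : ∀ z, h.pt z ∈ Submodule.span (ZMod 2) (Set.range fun p : Fin k × Fin (2 ^ m) => w p.1 p.2.succ) := by
      intro z
      obtain ⟨⟨j, x⟩, rfl⟩ := e.surjective z
      change w j x ∈ _
      rcases Fin.eq_zero_or_eq_succ x with rfl | ⟨y, rfl⟩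
      · rw [hw0]
        exact Submodule.sum_mem _ fun y _ => Submodule.subset_span ⟨(j, y), rfl⟩
      · exact Submodule.subset_span ⟨(j, y), rfl⟩
    exact Submodule.add_mem _ (h1 z) (h1 z')
  · -- swap
    intro i x y hxy
    have hne : e (i, x) ≠ e (i, y) := fun h0 => hxy (congrArg Prod.snd (e.injective h0))
    obtain ⟨d, hd⟩ := h.exists_tv hne (by rw [hcl, hcl])
    exact ⟨d, _, hd, fun j z => ⟨hsw i x y hxy d hd j z, hG' i x y j z hxy⟩⟩
  · -- all
    intro d x χ hd
    obtain ⟨z, z', hne, hcc, rfl⟩ := h.exists_pair hd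
    obtain ⟨⟨i, x⟩, rfl⟩ := e.surjective z
    obtain ⟨⟨j, y⟩, rfl⟩ := e.surjective z'
    have hij : i = j := by
      rw [hcl, hcl] at hcc
      exact c.injective hcc
    subst hij
    have hxy : x ≠ y := fun h0 => hne (by rw [h0])
    obtain ⟨d', hd'⟩ := h.exists_tv hne hcc
    have h1 := h.eq_of_centre hd hd'
    rw [h1] at hd
    rw [h1]
    exact ⟨i, x, y, hxy, rfl, fun j z => ⟨hsw i x y hxy d hd j z, hG' i x y j z hxy⟩⟩
  · -- perm
    intro g
    obtain ⟨π, h1, h2⟩ := h.good g
    set π' : Fin k × Fin (2 ^ m + 1) → Fin k × Fin (2 ^ m + 1) := fun p => e.symm (π (e p)) with hπ'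
    have hinj : Function.Injective π' := fun p p' hp => e.injective (π.injective (e.symm.injective hp))
    have h3 : ∀ p p' : Fin k × Fin (2 ^ m + 1), p.1 = p'.1 ↔ (π' p).1 = (π' p').1 := by
      intro p p'
      have h4 := h2 (e p) (e p')
      have h5 : ∀ p, e (π' p) = π (e p) := fun p => Equiv.apply_symm_apply _ _
      rw [← h5, ← h5, hcl, hcl, hcl, hcl, c.injective.eq_iff, c.injective.eq_iff] at h4
      exact h4
    have hσ : Function.Injective fun i : Fin k => (π' (i, 0)).1 := fun i j hij => (h3 (i, 0) (j, 0)).mpr hij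
    have hτ : ∀ i : Fin k, Function.Injective fun x : Fin (2 ^ m + 1) => (π' (i, x)).2 := by
      intro i x y hxy
      have h4 := (h3 (i, x) (i, y)).mp rfl
      exact congrArg Prod.snd (hinj (Prod.ext h4 hxy))
    refine ⟨Equiv.ofBijective _ (Finite.injective_iff_bijective.mp hσ),
      fun i => Equiv.ofBijective _ (Finite.injective_iff_bijective.mp (hτ i)), fun i x => ?_⟩
    change g • h.pt (e (i, x)) = h.pt (e ((π' (i, 0)).1, (π' (i, x)).2))
    rw [h1]
    congr 1
    rw [← Equiv.symm_apply_eq]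
    exact Prod.ext ((h3 (i, x) (i, 0)).mp rfl) rfl
  · -- fix0
    intro t ht i
    obtain ⟨C', hC'⟩ := h.smul_vc' ht (c i)
    refine ⟨c.symm C', ?_⟩
    change t • h.pt (e (i, 0)) = h.pt (e (c.symm C', 0))
    rw [he0, he0, Equiv.apply_symm_apply, pt_inl, pt_inl]
    exact hC'
  · -- trans
    intro i j
    obtain ⟨t, ht, htt⟩ := h.trans_vc (c i) (c j)
    refine ⟨t, ht, ?_⟩
    change t • h.pt (e (i, 0)) = h.pt (e (j, 0))
    rw [he0, he0, pt_inl, pt_inl]
    exact htt
  · -- gen
    rcases h.max _ (le_sup_right : (T : Subgroup P) ≤ closure (DD P V) ⊔ (T : Subgroup P)) with h1 | h1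
    · exfalso
      obtain ⟨l⟩ := ‹Nonempty ι›
      exact h.EM l (h1 ((le_sup_left : closure (DD P V) ≤ _) (subset_closure (h.hE l).mem)))
    · exact h1

end Fr

/-- **Theorem TV**: minimal parabolic groups with a transvection over `F₂`. -/
theorem Hyp.main [Finite P] [Finite V] {T : Sylow 2 P} {M : Subgroup P} (hH : Hyp P V T M) :
    ∃ (k m : ℕ) (w : Fin k → Fin (2 ^ m + 1) → V), SymFrame P V T k m w := by
  classical
  obtain ⟨v0, ψ0, h⟩ := hH.exists_pt
  obtain ⟨D, E, a, b, φ, ε, hF⟩ := h.exists_fr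
  have : Nonempty (DS V T 1) := h.DS_nonempty.to_subtype
  let hfin : Fintype (DS V T 1) := Fintype.ofFinite _
  exact hF.main

end Cfsg.Agent.Omega.Transv

end

section


/-!
# Minimal parabolics with transvections: reduction to a module without fixed points

`Gen T M`: `P` acts faithfully on the `F₂`-space `V`, `O₂(P) = 1`, `M` is the only maximal subgroup over the Sylow
2-subgroup `T`, and `P` contains a transvection `d`. With `N` the normal closure of `d`, the group `P` acts faithfully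
on `[V, N] / C_{[V, N]}(N)` and satisfies `Hyp` there.
-/

set_option autoImplicit false

namespace Cfsg.Agent.Omega.Transv

open Subgroup

variable {P : Type*} [Group P] {V : Type*} [AddCommGroup V] [Module (ZMod 2) V] [DistribMulAction P V]

/-- invariant subspaces -/
def Inv (P : Type*) {V : Type*} [Group P] [AddCommGroup V] [Module (ZMod 2) V] [DistribMulAction P V]
    (W : Submodule (ZMod 2) V) : Prop := ∀ g : P, ∀ v ∈ W, g • v ∈ W

/-- the action on an invariant subspace -/
@[reducible] def subAct {W : Submodule (ZMod 2) V} (h : Inv P W) : DistribMulAction P W where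
  smul g v := ⟨g • (v : V), h g v v.2⟩
  one_smul v := Subtype.ext (one_smul P (v : V))
  mul_smul g k v := Subtype.ext (mul_smul g k (v : V))
  smul_zero g := Subtype.ext (smul_zero g)
  smul_add g v w := Subtype.ext (smul_add g (v : V) w)

/-- the linear map of an element -/
def lin (g : P) : V →ₗ[ZMod 2] V where
  toFun v := g • v
  map_add' v w := smul_add g v w
  map_smul' c v := smul_zmod g c v

@[simp] theorem lin_apply (g : P) (v : V) : lin g v = g • v := rfl

/-- the action on a quotient -/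
@[reducible] def quoAct {W : Submodule (ZMod 2) V} (h : Inv P W) : DistribMulAction P (V ⧸ W) where
  smul g := W.mapQ W (lin g) fun v hv => h g v hv
  one_smul v := by
    induction v using Submodule.Quotient.induction_on with
    | H v => exact congrArg _ (one_smul P v)
  mul_smul g k v := by
    induction v using Submodule.Quotient.induction_on with
    | H v => exact congrArg _ (mul_smul g k v)
  smul_zero g := LinearMap.map_zero _
  smul_add g v w := LinearMap.map_add _ v w

/-- the fixed vectors of a subgroup -/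
def fixS (V : Type*) [AddCommGroup V] [Module (ZMod 2) V] [DistribMulAction P V] (N : Subgroup P) :
    Submodule (ZMod 2) V where
  carrier := {v | ∀ n ∈ N, n • v = v}
  zero_mem' := fun n _ => smul_zero n
  add_mem' := fun {v w} hv hw n hn => by rw [smul_add, hv n hn, hw n hn]
  smul_mem' := fun c v hv n hn => by rw [smul_zmod, hv n hn]

theorem mem_fixS {N : Subgroup P} {v : V} : v ∈ fixS V N ↔ ∀ n ∈ N, n • v = v := Iff.rfl

theorem inv_fixS {N : Subgroup P} (hN : N.Normal) : Inv P (fixS V N) := by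
  intro g v hv n hn
  have h1 := hv _ (hN.conj_mem n hn g⁻¹)
  rw [inv_inv, mul_smul, mul_smul, inv_smul_eq_iff] at h1
  exact h1

/-- the general hypotheses -/
structure Gen (P V : Type*) [Group P] [AddCommGroup V] [Module (ZMod 2) V] [DistribMulAction P V]
    (T : Sylow 2 P) (M : Subgroup P) : Prop where
  faith : Faith P V
  le : (T : Subgroup P) ≤ M
  ne : M ≠ ⊤
  max : ∀ X : Subgroup P, (T : Subgroup P) ≤ X → X ≤ M ∨ X = ⊤
  core : ∀ N : Subgroup P, N.Normal → IsPGroup 2 N → N = ⊥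
  tv : (DD P V).Nonempty

/-- a normal subgroup of even order covers `P/T` -/
theorem sup_eq_of [Finite P] {T : Sylow 2 P} {M : Subgroup P} (hne : M ≠ ⊤)
    (hmax : ∀ X : Subgroup P, (T : Subgroup P) ≤ X → X ≤ M ∨ X = ⊤)
    (hcore : ∀ N : Subgroup P, N.Normal → IsPGroup 2 N → N = ⊥) {N : Subgroup P} (hN : N.Normal)
    (he : 2 ∣ Nat.card N) : N ⊔ (T : Subgroup P) = ⊤ := by
  rcases hmax (N ⊔ (T : Subgroup P)) le_sup_right with h | h
  · exact absurd (le_sup_left.trans h) (not_le_of hne hmax hcore hN he)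
  · exact h

theorem exists_pow_mem {T : Sylow 2 P} {N : Subgroup P} (hN : N.Normal) (h : N ⊔ (T : Subgroup P) = ⊤) (g : P) :
    ∃ n : ℕ, g ^ (2 ^ n) ∈ N := by
  have h1 : g ∈ N ⊔ (T : Subgroup P) := by
    rw [h]
    exact mem_top g
  obtain ⟨x, hx, t, ht, rfl⟩ := mem_sup_of_normal_left.mp h1
  obtain ⟨n, hn⟩ := T.isPGroup' ⟨t, ht⟩
  have hn' : t ^ (2 ^ n) = 1 := congrArg Subtype.val hn
  refine ⟨n, ?_⟩
  have h2 : QuotientGroup.mk' N ((x * t) ^ (2 ^ n)) = 1 := by
    have h3 : QuotientGroup.mk' N x = 1 := (QuotientGroup.eq_one_iff x).mpr hx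
    rw [map_pow, map_mul, h3, one_mul, ← map_pow, hn', map_one]
  exact (QuotientGroup.eq_one_iff _).mp h2

theorem Tv.comm (hf : Faith P V) {d e : P} {a b : V} {φ ψ : Du V} (hd : Tv d a φ) (he : Tv e b ψ)
    (h0 : φ b = 0) (h1 : ψ a = 0) : d * e = e * d := by
  refine hf.ext fun v => ?_
  rw [mul_smul, mul_smul, he.act, hd.act, hd.act, he.act, map_add, map_add, map_smul, map_smul, h0, h1,
    smul_zero, smul_zero, add_zero, add_zero]
  abel

/-- the span of the conjugates of the centre -/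
def cen (P : Type*) {V : Type*} [Group P] [AddCommGroup V] [Module (ZMod 2) V] [DistribMulAction P V] (a : V) :
    Submodule (ZMod 2) V := Submodule.span (ZMod 2) (Set.range fun g : P => g • a)

theorem smul_mem_cen (g : P) (a : V) : g • a ∈ cen P a := Submodule.subset_span ⟨g, rfl⟩

theorem inv_cen (a : V) : Inv P (cen P a) := by
  intro g v hv
  have h1 : cen P a ≤ (cen P a).comap (lin g : V →ₗ[ZMod 2] V) := by
    rw [cen, Submodule.span_le]
    rintro _ ⟨k, rfl⟩
    change g • k • a ∈ cen P a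
    rw [← mul_smul]
    exact smul_mem_cen _ a
  exact h1 hv

namespace Gen

variable {T : Sylow 2 P} {M : Subgroup P} {d : P} {a : V} {φ : Du V}

theorem closure_eq : normalClosure {d} = closure (Set.range fun g : P => g * d * g⁻¹) := by
  rw [normalClosure]
  congr 1
  ext x
  rw [Group.mem_conjugatesOfSet_iff]
  constructor
  · rintro ⟨y, hy, hc⟩
    rw [Set.mem_singleton_iff] at hy
    subst hy
    obtain ⟨g, hg⟩ := isConj_iff.mp hc
    exact ⟨g, hg⟩
  · rintro ⟨g, rfl⟩
    exact ⟨d, rfl, isConj_iff.mpr ⟨g, rfl⟩⟩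

theorem conj_mem (g : P) : g * d * g⁻¹ ∈ normalClosure {d} :=
  normalClosure_normal.conj_mem d (subset_normalClosure (Set.mem_singleton d)) g

/-- the conjugates of a transvection do not all commute -/
theorem exists_smul_one (hG : Gen P V T M) (hd : Tv d a φ) : ∃ g : P, φ (g • a) = 1 := by
  by_contra hcon
  push Not at hcon
  have h0 : ∀ g : P, φ (g • a) = 0 := fun g => eq_zero_of_ne (hcon g)
  have h1 : Com V (Set.range fun g : P => g * d * g⁻¹) := by
    refine ⟨?_, ?_⟩
    · rintro _ ⟨g, rfl⟩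
      exact mem_DD_conj hd.mem g
    · rintro _ ⟨g, rfl⟩ _ ⟨k, rfl⟩
      refine (hd.conj g).comm hG.faith (hd.conj k) ?_ ?_
      · rw [dua_apply, ← mul_smul]
        exact h0 _
      · rw [dua_apply, ← mul_smul]
        exact h0 _
  have h2 := h1.isPGroup hG.faith
  rw [← closure_eq] at h2
  have h3 := hG.core _ normalClosure_normal h2
  have h4 : d ∈ normalClosure {d} := subset_normalClosure rfl
  rw [h3, mem_bot] at h4
  exact hd.ne_one h4

theorem exists_one_of (hG : Gen P V T M) (hd : Tv d a φ) (g : P) : ∃ v ∈ cen P a, (dua g φ) v = 1 := by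
  obtain ⟨k, hk⟩ := hG.exists_smul_one hd
  refine ⟨(g * k) • a, smul_mem_cen _ a, ?_⟩
  rw [dua_apply, mul_smul, inv_smul_smul]
  exact hk

theorem mem_fixS_iff (hd : Tv d a φ) (v : V) :
    v ∈ fixS V (normalClosure {d}) ↔ ∀ g : P, (dua g φ) v = 0 := by
  constructor
  · intro h g
    exact ((hd.conj g).fix_iff v).mp (h _ (conj_mem g))
  · intro h n hn
    rw [closure_eq] at hn
    have h1 : closure (Set.range fun g : P => g * d * g⁻¹) ≤ MulAction.stabilizer P v := by
      rw [closure_le]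
      rintro _ ⟨g, rfl⟩
      exact ((hd.conj g).fix_iff v).mpr (h g)
    exact h1 hn

theorem notMem_fixS (hG : Gen P V T M) (hd : Tv d a φ) (g : P) : g • a ∉ fixS V (normalClosure {d}) := by
  rw [mem_fixS_iff hd]
  intro h
  obtain ⟨k, hk⟩ := hG.exists_smul_one hd
  have h1 := h (g * k⁻¹)
  rw [dua_apply, mul_inv_rev, inv_inv, mul_smul, inv_smul_smul, hk] at h1
  exact one_ne h1

theorem add_mem_cen (hd : Tv d a φ) {n : P} (hn : n ∈ normalClosure {d}) (v : V) : n • v + v ∈ cen P a := by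
  rw [closure_eq] at hn
  induction hn using closure_induction generalizing v with
  | mem x hx =>
    obtain ⟨g, rfl⟩ := hx
    have h1 : (fun g : P => g * d * g⁻¹) g = g * d * g⁻¹ := rfl
    rw [h1, (hd.conj g).act, Fr.cancel_right]
    exact Submodule.smul_mem _ _ (smul_mem_cen g a)
  | one =>
    rw [one_smul, add_self]
    exact Submodule.zero_mem _
  | mul x y hx hy ihx ihy =>
    have h1 : (x * y) • v + v = (x • (y • v) + y • v) + (y • v + v) := by
      rw [mul_smul, add_assoc, ← add_assoc (y • v), add_self, zero_add]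
    rw [h1]
    exact Submodule.add_mem _ (ihx _) (ihy _)
  | inv x hx ih =>
    have h1 := ih (x⁻¹ • v)
    rw [smul_inv_smul, add_comm] at h1
    exact h1

section Sect

variable {W : Type*} [AddCommGroup W] [Module (ZMod 2) W] [DistribMulAction P W]
  {p : cen P a →ₗ[ZMod 2] W}

/-- the section is faithful -/
theorem faith_sect [Finite P] (hG : Gen P V T M) (hd : Tv d a φ)
    (heq : ∀ (g : P) (v : cen P a), p ⟨g • (v : V), inv_cen a g v v.2⟩ = g • p v)
    (hker : ∀ v : cen P a, p v = 0 ↔ (v : V) ∈ fixS V (normalClosure {d})) : Faith P W := by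
  set N : Subgroup P := normalClosure {d} with hN
  have hNn : N.Normal := normalClosure_normal
  have hNe : 2 ∣ Nat.card N := even_of_mem hG.faith hd.mem (subset_normalClosure rfl)
  have hNT := sup_eq_of hG.ne hG.max hG.core hNn hNe
  let K : Subgroup P :=
    { carrier := {g | ∀ w : cen P a, g • p w = p w}
      one_mem' := fun w => one_smul _ _
      mul_mem' := fun {x y} hx hy w => by rw [mul_smul, hy w, hx w]
      inv_mem' := fun {x} hx w => by rw [inv_smul_eq_iff, hx w] }
  have hKn : K.Normal := by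
    refine ⟨fun n hn g w => ?_⟩
    rw [mul_smul, mul_smul, ← heq, hn, heq, smul_inv_smul]
  -- `K ∩ N` is a 2-group
  have hKN : K ⊓ N = ⊥ := by
    refine hG.core _ inferInstance ?_
    rintro ⟨g, hgK, hgN⟩
    refine ⟨2, Subtype.ext ?_⟩
    change g ^ (2 ^ 2) = 1
    have h1 : ∀ v : V, v ∈ cen P a → g • v + v ∈ fixS V N := by
      intro v hv
      have h2 := hgK ⟨v, hv⟩
      rw [← heq] at h2
      have h3 : p (⟨g • v, inv_cen a g v hv⟩ + ⟨v, hv⟩) = 0 := by
        rw [map_add, h2, add_self]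
      exact (hker _).mp h3
    have h2 : ∀ v : V, v ∈ cen P a → (g * g) • v = v := by
      intro v hv
      have h3 := h1 v hv g hgN
      rw [smul_add, ← mul_smul] at h3
      have h4 : (g * g) • v + g • v + g • v = g • v + v + g • v := by rw [h3]
      rw [add_add_self, Fr.cancel_right] at h4
      exact h4
    refine hG.faith _ fun v => ?_
    have h3 : (g * g) • v + v ∈ cen P a := add_mem_cen hd (mul_mem hgN hgN) v
    have h4 := h2 _ h3
    rw [smul_add, ← mul_smul] at h4
    have h5 : (g * g * (g * g)) • v + (g * g) • v + (g * g) • v = (g * g) • v + v + (g * g) • v := by rw [h4]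
    rw [add_add_self, Fr.cancel_right] at h5
    have h6 : g ^ (2 ^ 2) = g * g * (g * g) := by
      rw [show (2 : ℕ) ^ 2 = 2 + 2 by norm_num, pow_add, pow_two]
    rw [h6]
    exact h5
  have hK : K = ⊥ := by
    refine hG.core _ hKn ?_
    rintro ⟨g, hgK⟩
    obtain ⟨n, hn⟩ := exists_pow_mem hNn hNT g
    refine ⟨n, Subtype.ext ?_⟩
    have h1 : g ^ (2 ^ n) ∈ K ⊓ N := ⟨K.pow_mem hgK _, hn⟩
    rw [hKN, mem_bot] at h1
    exact h1
  intro g hg
  have h1 : g ∈ K := fun w => hg _
  rw [hK, mem_bot] at h1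
  exact h1

/-- no fixed vectors of `N` -/
theorem fix_sect (hG : Gen P V T M) (hd : Tv d a φ) (hp : Function.Surjective p)
    (heq : ∀ (g : P) (v : cen P a), p ⟨g • (v : V), inv_cen a g v v.2⟩ = g • p v)
    (hker : ∀ v : cen P a, p v = 0 ↔ (v : V) ∈ fixS V (normalClosure {d})) {w : W}
    (hw : ∀ n ∈ normalClosure {d}, n • w = w) : w = 0 := by
  obtain ⟨⟨v, hv⟩, rfl⟩ := hp w
  rw [hker]
  rw [mem_fixS_iff hd]
  intro g
  refine eq_zero_of_ne fun h1 => ?_
  have h2 := hw _ (conj_mem g)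
  rw [← heq] at h2
  have h3 : p (⟨(g * d * g⁻¹) • v, inv_cen a _ v hv⟩ + ⟨v, hv⟩) = 0 := by
    rw [map_add, h2, add_self]
  have h4 := (hker _).mp h3
  change (g * d * g⁻¹) • v + v ∈ _ at h4
  rw [(hd.conj g).act, h1, one_smul, Fr.cancel_right] at h4
  exact hG.notMem_fixS hd g h4

/-- no fixed functionals of `N` -/
theorem fixd_sect (hG : Gen P V T M) (hd : Tv d a φ) (hp : Function.Surjective p)
    (heq : ∀ (g : P) (v : cen P a), p ⟨g • (v : V), inv_cen a g v v.2⟩ = g • p v) {f : Du W}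
    (hf : ∀ n ∈ normalClosure {d}, ∀ w : W, f (n • w) = f w) : f = 0 := by
  have h1 : ∀ g : P, f (p ⟨g • a, smul_mem_cen g a⟩) = 0 := by
    intro g
    obtain ⟨v, hv, h1⟩ := hG.exists_one_of hd g
    have h2 := hf _ (conj_mem g) (p ⟨v, hv⟩)
    rw [← heq] at h2
    have h3 : (⟨(g * d * g⁻¹) • v, inv_cen a _ v hv⟩ : cen P a) = ⟨v, hv⟩ + ⟨g • a, smul_mem_cen g a⟩ := by
      apply Subtype.ext
      change (g * d * g⁻¹) • v = v + g • a
      rw [(hd.conj g).act, h1, one_smul]
    have h4 : f (p ⟨(g * d * g⁻¹) • v, inv_cen a _ v hv⟩) = f (p ⟨v, hv⟩) + f (p ⟨g • a, smul_mem_cen g a⟩) := by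
      rw [h3, map_add, map_add]
    have h5 : f (p ⟨v, hv⟩) + f (p ⟨g • a, smul_mem_cen g a⟩) = f (p ⟨v, hv⟩) := by
      rw [← h4]
      exact h2
    exact left_eq_add.mp h5.symm
  ext w
  obtain ⟨⟨v, hv⟩, rfl⟩ := hp w
  have h2 : ∀ (v : V) (hv : v ∈ cen P a), f (p ⟨v, hv⟩) = 0 := by
    intro v hv
    induction hv using Submodule.span_induction with
    | mem x hx =>
      obtain ⟨g, rfl⟩ := hx
      exact h1 g
    | zero => exact (f.comp p).map_zero
    | add x y hx hy ihx ihy =>
      have h3 : f (p ⟨x + y, Submodule.add_mem _ hx hy⟩) = f (p ⟨x, hx⟩) + f (p ⟨y, hy⟩) :=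
        (f.comp p).map_add ⟨x, hx⟩ ⟨y, hy⟩
      rw [h3, ihx, ihy, add_zero]
    | smul c x hx ih =>
      have h3 : f (p ⟨c • x, Submodule.smul_mem _ c hx⟩) = c • f (p ⟨x, hx⟩) :=
        (f.comp p).map_smul c ⟨x, hx⟩
      rw [h3, ih, smul_zero]
  exact h2 v hv

omit [DistribMulAction P W] in
/-- functionals on the section -/
theorem exists_lift (hp : Function.Surjective p) (f : Du V) (h0 : ∀ v : cen P a, p v = 0 → f v = 0) :
    ∃ f' : Du W, ∀ v : cen P a, f' (p v) = f v := by
  have h1 : LinearMap.ker p ≤ LinearMap.ker (f.comp (cen P a).subtype) := by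
    intro v hv
    exact h0 v hv
  refine ⟨((LinearMap.ker p).liftQ (f.comp (cen P a).subtype) h1).comp
    (p.quotKerEquivOfSurjective hp).symm.toLinearMap, fun v => ?_⟩
  have h2 : (p.quotKerEquivOfSurjective hp).symm (p v) = Submodule.Quotient.mk v := by
    rw [LinearEquiv.symm_apply_eq]
    rfl
  change ((LinearMap.ker p).liftQ (f.comp (cen P a).subtype) h1) ((p.quotKerEquivOfSurjective hp).symm (p v)) = f v
  rw [h2]
  rfl

/-- transvections on the section -/
theorem tv_sect (hp : Function.Surjective p)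
    (heq : ∀ (g : P) (v : cen P a), p ⟨g • (v : V), inv_cen a g v v.2⟩ = g • p v)
    (hker : ∀ v : cen P a, p v = 0 ↔ (v : V) ∈ fixS V (normalClosure {d})) {e : P} {b : V} {ψ : Du V}
    (he : Tv e b ψ) (hb : b ∈ cen P a) (hb' : b ∉ fixS V (normalClosure {d})) (h1 : ∃ v ∈ cen P a, ψ v = 1)
    (h0 : ∀ v ∈ fixS V (normalClosure {d}), ψ v = 0) :
    ∃ ψ' : Du W, Tv e (p ⟨b, hb⟩) ψ' ∧ ∀ v : cen P a, ψ' (p v) = ψ v := by
  obtain ⟨ψ', hψ⟩ := exists_lift hp ψ fun v hv => h0 _ ((hker v).mp hv)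
  refine ⟨ψ', ⟨?_, ?_, ?_⟩, hψ⟩
  · intro h2
    exact hb' ((hker _).mp h2)
  · intro h2
    obtain ⟨v, hv, h3⟩ := h1
    have h4 := hψ ⟨v, hv⟩
    rw [h2] at h4
    exact zero_ne_one' (h4.trans h3)
  · intro w
    obtain ⟨v, rfl⟩ := hp w
    rw [← heq, hψ, ← map_smul, ← map_add]
    congr 1
    apply Subtype.ext
    exact he.act v

/-- the conjugates of `d` are transvections on the section -/
theorem tv_sect_conj (hG : Gen P V T M) (hd : Tv d a φ) (hp : Function.Surjective p)
    (heq : ∀ (g : P) (v : cen P a), p ⟨g • (v : V), inv_cen a g v v.2⟩ = g • p v)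
    (hker : ∀ v : cen P a, p v = 0 ↔ (v : V) ∈ fixS V (normalClosure {d})) (g : P) :
    ∃ ψ' : Du W, Tv (g * d * g⁻¹) (p ⟨g • a, smul_mem_cen g a⟩) ψ' ∧ ∀ v : cen P a, ψ' (p v) = (dua g φ) v :=
  tv_sect hp heq hker (hd.conj g) (smul_mem_cen g a) (hG.notMem_fixS hd g) (hG.exists_one_of hd g)
    fun v hv => (mem_fixS_iff hd v).mp hv g

/-- fixed points of normal subgroups of even order -/
theorem no_fix {U : Type*} [AddCommGroup U] [Module (ZMod 2) U] [Finite U] [DistribMulAction P U] {N : Subgroup P}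
    (hN : N.Normal) (hNT : N ⊔ (T : Subgroup P) = ⊤) [Finite P] (h0 : ∀ u : U, (∀ g : P, g • u = u) → u = 0) (u : U)
    (hu : ∀ n ∈ N, n • u = u) : u = 0 := by
  by_contra hne
  let := subAct (inv_fixS (V := U) hN)
  have h1 : (⟨u, hu⟩ : fixS U N) ≠ 0 := fun h2 => hne (congrArg Subtype.val h2)
  obtain ⟨w0, hw0, hT⟩ := exists_fixed (Q := T) T.isPGroup' h1
  apply hw0
  apply Subtype.ext
  refine h0 _ fun g => ?_
  have h2 : N ⊔ (T : Subgroup P) ≤ MulAction.stabilizer P (w0 : U) := by
    refine sup_le ?_ ?_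
    · intro n hn
      exact w0.2 n hn
    · intro t ht
      exact congrArg Subtype.val (hT ⟨t, ht⟩)
  rw [hNT] at h2
  exact h2 (mem_top g)

/-- the section satisfies `Hyp` -/
theorem hyp_sect [Finite P] [Finite W] (hG : Gen P V T M) (hd : Tv d a φ) (hp : Function.Surjective p)
    (heq : ∀ (g : P) (v : cen P a), p ⟨g • (v : V), inv_cen a g v v.2⟩ = g • p v)
    (hker : ∀ v : cen P a, p v = 0 ↔ (v : V) ∈ fixS V (normalClosure {d})) : Hyp P W T M where
  faith := faith_sect hG hd heq hker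
  le := hG.le
  ne := hG.ne
  max := hG.max
  fix N hN he v hv := by
    refine no_fix (T := T) hN (sup_eq_of hG.ne hG.max hG.core hN he) (fun u hu => ?_) v hv
    exact fix_sect hG hd hp heq hker fun n _ => hu n
  fixd N hN he f hf := by
    let := dualAct P W
    have : Finite (Du W) := Finite.of_injective (fun φ : Du W => (φ : W → ZMod 2)) DFunLike.coe_injective
    refine no_fix (T := T) hN (sup_eq_of hG.ne hG.max hG.core hN he) (fun u hu => ?_) f fun n hn => ?_
    · refine fixd_sect hG hd hp heq fun n _ w => ?_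
      have h1 := LinearMap.congr_fun (hu n⁻¹) w
      change u (n⁻¹⁻¹ • w) = u w at h1
      rwa [inv_inv] at h1
    · ext w
      change f (n⁻¹ • w) = f w
      exact hf _ (N.inv_mem hn) w
  core := hG.core
  tv := by
    obtain ⟨ψ', h1, -⟩ := tv_sect_conj hG hd hp heq hker 1
    exact ⟨_, _, _, h1⟩

end Sect

end Gen

end Cfsg.Agent.Omega.Transv

end

section


/-!
# Minimal parabolics with transvections: the theorem for arbitrary modules

`Gen.main`: if `P` acts faithfully on `V` with `O₂(P) = 1`, the Sylow 2-subgroup `T` is in a unique maximal subgroup,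
and `P` contains a transvection, then `V` is the direct sum of even-subset modules and of the centraliser of the
transvections.
-/

set_option autoImplicit false

namespace Cfsg.Agent.Omega.Transv

open Subgroup

variable {P : Type*} [Group P] {V : Type*} [AddCommGroup V] [Module (ZMod 2) V] [DistribMulAction P V]

open Classical in
/-- `V` is the direct sum of `k` even-subset modules with points `w i x`, `x ∈ Fin (2 ^ m + 1)` (the sum of the points
of each summand is zero), and of the centraliser of the transvections; the transvections of `P` are the transpositions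
of the points of one summand. -/
structure SymMod (P V : Type*) [Group P] [AddCommGroup V] [Module (ZMod 2) V] [DistribMulAction P V]
    (T : Sylow 2 P) (k m : ℕ) (w : Fin k → Fin (2 ^ m + 1) → V) : Prop where
  k_pos : 0 < k
  m_pos : 0 < m
  /-- the points of a summand have sum zero -/
  sum_zero : ∀ i, ∑ x, w i x = 0
  /-- this is the only relation -/
  indep : LinearIndependent (ZMod 2) fun p : Fin k × Fin (2 ^ m) => w p.1 p.2.succ
  /-- the centraliser of the transvections is a complement -/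
  compl : IsCompl (Submodule.span (ZMod 2) (Set.range fun p : Fin k × Fin (2 ^ m) => w p.1 p.2.succ))
    (fixS V (closure (DD P V)))
  /-- the transposition `(x y)` of the summand `i` is a transvection with centre `w i x + w i y` -/
  swap : ∀ i x y, x ≠ y → ∃ d : P, ∃ χ : Du V, Tv d (w i x + w i y) χ ∧
    ∀ j z, (d • w j z = w j (if j = i then Equiv.swap x y z else z)) ∧ (χ (w j z) = 1 ↔ j = i ∧ (z = x ∨ z = y))
  /-- there are no other transvections -/
  all : ∀ (d : P) (a : V) (χ : Du V), Tv d a χ → ∃ i x y, x ≠ y ∧ a = w i x + w i y ∧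
    ∀ j z, (d • w j z = w j (if j = i then Equiv.swap x y z else z)) ∧ (χ (w j z) = 1 ↔ j = i ∧ (z = x ∨ z = y))
  /-- `P` permutes the points -/
  perm : ∀ g : P, ∃ (σ : Equiv.Perm (Fin k)) (τ : Fin k → Equiv.Perm (Fin (2 ^ m + 1))),
    ∀ i x, g • w i x = w (σ i) (τ i x)
  /-- the action on the points is faithful -/
  faithful : ∀ g : P, (∀ i x, g • w i x = w i x) → g = 1
  /-- `T` fixes the points `0` -/
  fix0 : ∀ t ∈ T, ∀ i, ∃ j, t • w i 0 = w j 0
  /-- `T` permutes the summands transitively -/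
  trans : ∀ i j, ∃ t ∈ T, t • w i 0 = w j 0
  /-- generation -/
  gen : closure (DD P V) ⊔ (T : Subgroup P) = ⊤
  /-- the transvections are conjugate -/
  conj : ∀ d ∈ DD P V, ∀ e ∈ DD P V, ∃ g, e = g * d * g⁻¹
  /-- a transvection is determined by its centre -/
  eq_of_ctr : ∀ (d e : P) (a : V) (χ χ' : Du V), Tv d a χ → Tv e a χ' → d = e

namespace Gen

variable {T : Sylow 2 P} {M : Subgroup P} {d : P} {a : V} {φ : Du V}
variable {W : Type*} [AddCommGroup W] [Module (ZMod 2) W] [DistribMulAction P W]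
  {p : cen P a →ₗ[ZMod 2] W}

theorem lift_frame [Finite P] [Finite V] [Finite W] (hG : Gen P V T M) (hd : Tv d a φ) (hp : Function.Surjective p)
    (heq : ∀ (g : P) (v : cen P a), p ⟨g • (v : V), inv_cen a g v v.2⟩ = g • p v)
    (hker : ∀ v : cen P a, p v = 0 ↔ (v : V) ∈ fixS V (normalClosure {d})) {k m : ℕ}
    {w' : Fin k → Fin (2 ^ m + 1) → W} (hF : SymFrame P W T k m w') :
    ∃ w : Fin k → Fin (2 ^ m + 1) → V, SymMod P V T k m w := by
  classical
  have hfW := faith_sect hG hd heq hker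
  -- the conjugates of `d`
  have hconj : ∀ g : P, ∃ ψ' : Du W, Tv (g * d * g⁻¹) (p ⟨g • a, smul_mem_cen g a⟩) ψ' ∧
      ∀ v : cen P a, ψ' (p v) = (dua g φ) v := tv_sect_conj hG hd hp heq hker
  have hdW : d ∈ DD P W := by
    obtain ⟨ψ', h1, -⟩ := hconj 1
    have h2 : 1 * d * 1⁻¹ = d := by group
    rw [h2] at h1
    exact h1.mem
  -- transvections on `W` are conjugates of `d`
  have hall : ∀ (e : P) (c : W) (χ : Du W), Tv e c χ → ∃ g : P, e = g * d * g⁻¹ ∧
      c = p ⟨g • a, smul_mem_cen g a⟩ ∧ ∀ v : cen P a, χ (p v) = (dua g φ) v := by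
    intro e c χ he
    obtain ⟨g, hg⟩ := hF.conj d hdW e he.mem
    obtain ⟨ψ', h1, h2⟩ := hconj g
    rw [← hg] at h1
    obtain ⟨h3, h4⟩ := he.unique h1
    refine ⟨g, hg, h3, fun v => ?_⟩
    rw [h4, h2]
  -- the transpositions `(0 x)`
  have hsw : ∀ q : Fin k × Fin (2 ^ m), ∃ g : P,
      w' q.1 0 + w' q.1 q.2.succ = p ⟨g • a, smul_mem_cen g a⟩ := by
    rintro ⟨i, x⟩
    obtain ⟨e, χ, he, h1⟩ := hF.swap i 0 x.succ (Fin.succ_ne_zero x).symm
    obtain ⟨g, hg, h2, h3⟩ := hall e _ χ he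
    exact ⟨g, h2⟩
  choose G hG1 using hsw
  -- the centres `(x y)`
  have hcen : ∀ g : P, (∃ q, g • a = G q • a ∧ dua g φ = dua (G q) φ ∧ g * d * g⁻¹ = G q * d * (G q)⁻¹) ∨
      ∃ q q', g * d * g⁻¹ = (G q * d * (G q)⁻¹) * (G q' * d * (G q')⁻¹) * (G q * d * (G q)⁻¹) := by
    intro g
    obtain ⟨ψ', h1, h2⟩ := hconj g
    obtain ⟨i, x, y, hxy, hc, h3⟩ := hF.all _ _ _ h1
    -- one of them is zero
    have hz : ∀ z : Fin (2 ^ m), p ⟨g • a, smul_mem_cen g a⟩ = w' i 0 + w' i z.succ →
        ∃ q, g • a = G q • a ∧ dua g φ = dua (G q) φ ∧ g * d * g⁻¹ = G q * d * (G q)⁻¹ := by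
      intro z hz
      obtain ⟨ψ2, h4, -⟩ := hconj (G (i, z))
      have h5 : p ⟨G (i, z) • a, smul_mem_cen _ a⟩ = p ⟨g • a, smul_mem_cen g a⟩ := by
        rw [hz, ← hG1 (i, z)]
      rw [h5] at h4
      have h6 := hF.eq_of_ctr _ _ _ _ _ h1 h4
      have h7 := hd.conj g
      rw [h6] at h7
      obtain ⟨h8, h9⟩ := h7.unique (hd.conj (G (i, z)))
      exact ⟨(i, z), h8, h9, h6⟩
    rcases Fin.eq_zero_or_eq_succ x with rfl | ⟨x', rfl⟩
    · rcases Fin.eq_zero_or_eq_succ y with rfl | ⟨y', rfl⟩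
      · exact absurd rfl hxy
      · exact Or.inl (hz y' hc)
    · rcases Fin.eq_zero_or_eq_succ y with rfl | ⟨y', rfl⟩
      · rw [add_comm] at hc
        exact Or.inl (hz x' hc)
      · right
        refine ⟨(i, x'), (i, y'), ?_⟩
        obtain ⟨e, χ, he, h4⟩ := hF.swap i 0 x'.succ (Fin.succ_ne_zero x').symm
        obtain ⟨f, η, hf, h5⟩ := hF.swap i 0 y'.succ (Fin.succ_ne_zero y').symm
        have he' : e = G (i, x') * d * (G (i, x'))⁻¹ := by
          obtain ⟨ψ2, h6, -⟩ := hconj (G (i, x'))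
          rw [← hG1 (i, x')] at h6
          exact hF.eq_of_ctr _ _ _ _ _ he h6
        have hf' : f = G (i, y') * d * (G (i, y'))⁻¹ := by
          obtain ⟨ψ2, h6, -⟩ := hconj (G (i, y'))
          rw [← hG1 (i, y')] at h6
          exact hF.eq_of_ctr _ _ _ _ _ hf h6
        rw [← he', ← hf']
        have h6 := he.conj_tv hfW hf
        have h7 : χ (w' i 0 + w' i y'.succ) = 1 := by
          have h8 : χ (w' i 0) = 1 := (h4 i 0).2.mpr ⟨rfl, Or.inl rfl⟩
          have h9 : χ (w' i y'.succ) = 0 := by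
            refine eq_zero_of_ne fun h0 => ?_
            rcases ((h4 i y'.succ).2.mp h0).2 with h10 | h10
            · exact Fin.succ_ne_zero y' h10
            · exact hxy h10.symm
          rw [map_add, h8, h9, add_zero]
        rw [h7, one_smul] at h6
        have h8 : w' i 0 + w' i y'.succ + (w' i 0 + w' i x'.succ) = p ⟨g • a, smul_mem_cen g a⟩ := by
          rw [hc, Fr.cancel_mid, add_comm]
        rw [h8] at h6
        exact hF.eq_of_ctr _ _ _ _ _ h1 h6
  -- dimensions
  have hspan : cen P a ≤ Submodule.span (ZMod 2) (Set.range fun q => G q • a) := by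
    rw [cen, Submodule.span_le]
    rintro _ ⟨g, rfl⟩
    change g • a ∈ Submodule.span (ZMod 2) (Set.range fun q => G q • a)
    rcases hcen g with ⟨q, h1, -, -⟩ | ⟨q, q', h1⟩
    · rw [h1]
      exact Submodule.subset_span ⟨q, rfl⟩
    · have h2 := (hd.conj (G q)).conj_tv hG.faith (hd.conj (G q'))
      rw [← h1] at h2
      rw [((hd.conj g).unique h2).1]
      exact Submodule.add_mem _ (Submodule.subset_span ⟨q', rfl⟩)
        (Submodule.smul_mem _ _ (Submodule.subset_span ⟨q, rfl⟩))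
  have hcard : Fintype.card (Fin k × Fin (2 ^ m)) = k * 2 ^ m := by
    rw [Fintype.card_prod, Fintype.card_fin, Fintype.card_fin]
  have hfr1 : Module.finrank (ZMod 2) (cen P a) ≤ k * 2 ^ m := by
    rw [← hcard]
    exact (Submodule.finrank_mono hspan).trans (finrank_range_le_card _)
  have hfrW : Module.finrank (ZMod 2) W = k * 2 ^ m := by
    rw [← hcard]
    exact Module.finrank_eq_card_basis (Module.Basis.mk hF.indep hF.span.ge)
  have hinj : Function.Injective p := by
    have h1 := LinearMap.finrank_range_add_finrank_ker p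
    rw [LinearMap.range_eq_top.mpr hp, finrank_top, hfrW] at h1
    have h2 : Module.finrank (ZMod 2) (LinearMap.ker p) = 0 := by omega
    rw [← LinearMap.ker_eq_bot]
    exact Submodule.finrank_eq_zero.mp h2
  have hfr2 : Module.finrank (ZMod 2) (cen P a) = k * 2 ^ m := by
    have h1 := LinearMap.finrank_range_add_finrank_ker p
    rw [LinearMap.range_eq_top.mpr hp, finrank_top, hfrW] at h1
    omega
  -- the complement
  have hdisj : Disjoint (cen P a) (fixS V (normalClosure {d})) := by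
    rw [Submodule.disjoint_def]
    intro v hv hv'
    have h1 : p ⟨v, hv⟩ = 0 := (hker _).mpr hv'
    rw [← map_zero p] at h1
    exact congrArg Subtype.val (hinj h1)
  have hcodim : Module.finrank (ZMod 2) V ≤
      Module.finrank (ZMod 2) (cen P a) + Module.finrank (ZMod 2) (fixS V (normalClosure {d})) := by
    let Ψ : V →ₗ[ZMod 2] (Fin k × Fin (2 ^ m) → ZMod 2) := LinearMap.pi fun q => dua (G q) φ
    have h1 := LinearMap.finrank_range_add_finrank_ker Ψ
    have h2 : Module.finrank (ZMod 2) (LinearMap.range Ψ) ≤ k * 2 ^ m := by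
      have h3 := Submodule.finrank_le (LinearMap.range Ψ)
      rwa [Module.finrank_fintype_fun_eq_card, hcard] at h3
    have h3 : LinearMap.ker Ψ ≤ fixS V (normalClosure {d}) := by
      intro v hv
      have h4 : ∀ q, (dua (G q) φ) v = 0 := fun q => congrFun hv q
      have h5 : ∀ q, (G q * d * (G q)⁻¹) • v = v := fun q => ((hd.conj (G q)).fix_iff v).mpr (h4 q)
      rw [mem_fixS_iff hd]
      intro g
      rcases hcen g with ⟨q, -, h6, -⟩ | ⟨q, q', h6⟩
      · rw [h6]
        exact h4 q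
      · rw [← (hd.conj g).fix_iff, h6, mul_smul, mul_smul, h5, h5, h5]
    have h4 := Submodule.finrank_mono h3
    omega
  have hcompl : IsCompl (cen P a) (fixS V (normalClosure {d})) :=
    (Submodule.isCompl_iff_disjoint _ _ hcodim).mpr hdisj
  -- the points
  choose w1 hw1 using fun i x => hp (w' i x)
  -- equivariance
  have hact : ∀ (g : P) i x j y, g • w' i x = w' j y → g • (w1 i x : V) = w1 j y := by
    intro g i x j y h1
    rw [← hw1, ← hw1, ← heq] at h1
    exact congrArg Subtype.val (hinj h1)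
  -- transvections on `V` are transvections on `W`
  have hdown : ∀ (e : P) (c : V) (ψ : Du V), Tv e c ψ → ∃ g : P, e = g * d * g⁻¹ ∧ c = g • a ∧ ψ = dua g φ := by
    intro e c ψ he
    -- `ψ` is not zero on `cen P a`
    have h1 : ∃ v ∈ cen P a, ψ v = 1 := by
      by_contra hcon
      push Not at hcon
      apply he.ne_one
      refine hfW e fun u => ?_
      obtain ⟨⟨v, hv⟩, rfl⟩ := hp u
      rw [← heq]
      congr 1
      apply Subtype.ext
      change e • v = v
      exact (he.fix_iff v).mpr (eq_zero_of_ne (hcon v hv))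
    obtain ⟨v, hv, hv1⟩ := h1
    have hc : c ∈ cen P a := by
      have h2 : e • v + v ∈ cen P a := Submodule.add_mem _ (inv_cen a e v hv) hv
      rw [he.act, hv1, one_smul, Fr.cancel_right] at h2
      exact h2
    have h2 : Tv e (p ⟨c, hc⟩) ((ψ.comp (cen P a).subtype).comp
        (LinearEquiv.ofBijective p ⟨hinj, hp⟩).symm.toLinearMap) := by
      have h3 : ∀ u : cen P a, (LinearEquiv.ofBijective p ⟨hinj, hp⟩).symm (p u) = u := fun u => by
        rw [LinearEquiv.symm_apply_eq]
        rfl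
      refine ⟨?_, ?_, ?_⟩
      · intro h4
        rw [← map_zero p] at h4
        exact he.ne (congrArg Subtype.val (hinj h4))
      · intro h4
        have h5 := LinearMap.congr_fun h4 (p ⟨v, hv⟩)
        change ψ (((LinearEquiv.ofBijective p ⟨hinj, hp⟩).symm (p ⟨v, hv⟩) : cen P a) : V) = 0 at h5
        rw [h3] at h5
        exact one_ne (hv1.symm.trans h5)
      · intro u
        obtain ⟨u, rfl⟩ := hp u
        change e • p u = p u + ψ (((LinearEquiv.ofBijective p ⟨hinj, hp⟩).symm (p u) : cen P a) : V) • _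
        rw [h3, ← heq, ← map_smul, ← map_add]
        congr 1
        apply Subtype.ext
        exact he.act u
    obtain ⟨g, hg, -, -⟩ := hall e _ _ h2
    have h3 := hd.conj g
    rw [← hg] at h3
    obtain ⟨h4, h5⟩ := he.unique h3
    exact ⟨g, hg, h4, h5⟩
  have hclos : closure (DD P V) = normalClosure {d} := by
    rw [closure_eq]
    apply le_antisymm
    · rw [closure_le]
      rintro e ⟨c, ψ, he⟩
      obtain ⟨g, hg, -, -⟩ := hdown e c ψ he
      exact subset_closure ⟨g, hg.symm⟩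
    · rw [closure_le]
      rintro _ ⟨g, rfl⟩
      exact subset_closure (mem_DD_conj hd.mem g)
  have hspw : Submodule.span (ZMod 2) (Set.range fun q : Fin k × Fin (2 ^ m) => (w1 q.1 q.2.succ : V)) = cen P a := by
    have h1 : (Set.range fun q : Fin k × Fin (2 ^ m) => (w1 q.1 q.2.succ : V)) =
        (cen P a).subtype '' Set.range fun q : Fin k × Fin (2 ^ m) => w1 q.1 q.2.succ := by
      ext v
      constructor
      · rintro ⟨q, rfl⟩
        exact ⟨_, ⟨q, rfl⟩, rfl⟩
      · rintro ⟨_, ⟨q, rfl⟩, rfl⟩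
        exact ⟨q, rfl⟩
    have h2 : Submodule.span (ZMod 2) (Set.range fun q : Fin k × Fin (2 ^ m) => w1 q.1 q.2.succ) = ⊤ := by
      have h3 : (Submodule.span (ZMod 2) (Set.range fun q : Fin k × Fin (2 ^ m) => w1 q.1 q.2.succ)).map p = ⊤ := by
        rw [Submodule.map_span, ← hF.span]
        congr 1
        ext u
        constructor
        · rintro ⟨_, ⟨q, rfl⟩, rfl⟩
          exact ⟨q, (hw1 _ _).symm⟩
        · rintro ⟨q, rfl⟩
          exact ⟨_, ⟨q, rfl⟩, hw1 _ _⟩
      rw [eq_top_iff]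
      intro v _
      have h4 : p v ∈ (Submodule.span (ZMod 2) (Set.range fun q : Fin k × Fin (2 ^ m) => w1 q.1 q.2.succ)).map p := by
        rw [h3]
        exact Submodule.mem_top
      obtain ⟨u, hu, huv⟩ := h4
      rw [← hinj huv]
      exact hu
    rw [h1, ← Submodule.map_span, h2, Submodule.map_top, Submodule.range_subtype]
  -- the values of the functionals
  have hval : ∀ (g : P) (i : Fin k) (x y : Fin (2 ^ m + 1)) (χ : Du W),
      Tv (g * d * g⁻¹) (w' i x + w' i y) χ → (∀ j z, (χ (w' j z) = 1 ↔ j = i ∧ (z = x ∨ z = y))) →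
      g • a = (w1 i x : V) + w1 i y ∧ ∀ j z, ((dua g φ) (w1 j z : V) = 1 ↔ j = i ∧ (z = x ∨ z = y)) := by
    intro g i x y χ h1 h2
    obtain ⟨ψ', h3, h4⟩ := hconj g
    obtain ⟨h5, h6⟩ := h1.unique h3
    constructor
    · rw [← hw1, ← hw1, ← map_add] at h5
      exact (congrArg Subtype.val (hinj h5)).symm
    · intro j z
      rw [← h4, ← h6, hw1]
      exact h2 j z
  refine ⟨fun i x => (w1 i x : V), ⟨hF.k_pos, hF.m_pos, fun i => ?_, ?_, ?_, fun i x y hxy => ?_, fun e c χ he => ?_,
    fun g => ?_, fun g hg => ?_, fun t ht i => ?_, fun i j => ?_, ?_, fun e he f hf => ?_, fun e f c χ χ' he hf => ?_⟩⟩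
  · -- sum_zero
    have h1 : p (∑ x, w1 i x) = 0 := by
      rw [map_sum, ← hF.sum_zero i]
      exact Finset.sum_congr rfl fun x _ => hw1 i x
    rw [← map_zero p] at h1
    have h2 := congrArg (cen P a).subtype (hinj h1)
    rw [map_sum, map_zero] at h2
    exact h2
  · -- indep
    have h1 : LinearIndependent (ZMod 2) fun q : Fin k × Fin (2 ^ m) => w1 q.1 q.2.succ := by
      refine LinearIndependent.of_comp p ?_
      have h2 : (p ∘ fun q : Fin k × Fin (2 ^ m) => w1 q.1 q.2.succ) = fun q => w' q.1 q.2.succ := by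
        funext q
        exact hw1 _ _
      rw [h2]
      exact hF.indep
    exact h1.map' (cen P a).subtype (Submodule.ker_subtype _)
  · -- compl
    rw [hspw, hclos]
    exact hcompl
  · -- swap
    obtain ⟨e, χ, he, h1⟩ := hF.swap i x y hxy
    obtain ⟨g, rfl, -, -⟩ := hall e _ χ he
    obtain ⟨h2, h3⟩ := hval g i x y χ he fun j z => (h1 j z).2
    refine ⟨g * d * g⁻¹, dua g φ, ?_, fun j z => ⟨hact _ _ _ _ _ (h1 j z).1, h3 j z⟩⟩
    rw [← h2]
    exact hd.conj g
  · -- all
    obtain ⟨g, rfl, rfl, rfl⟩ := hdown e c χ he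
    obtain ⟨ψ', h1, -⟩ := hconj g
    obtain ⟨i, x, y, hxy, h2, h3⟩ := hF.all _ _ _ h1
    rw [h2] at h1
    obtain ⟨h4, h5⟩ := hval g i x y ψ' h1 fun j z => (h3 j z).2
    exact ⟨i, x, y, hxy, h4, fun j z => ⟨hact _ _ _ _ _ (h3 j z).1, h5 j z⟩⟩
  · -- perm
    obtain ⟨σ, τ, h1⟩ := hF.perm g
    exact ⟨σ, τ, fun i x => hact _ _ _ _ _ (h1 i x)⟩
  · -- faithful
    refine hfW g fun u => ?_
    have h1 : Submodule.span (ZMod 2) (Set.range fun q : Fin k × Fin (2 ^ m) => w' q.1 q.2.succ) ≤
        LinearMap.ker ((lin g : W →ₗ[ZMod 2] W) - LinearMap.id) := by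
      rw [Submodule.span_le]
      rintro _ ⟨q, rfl⟩
      change g • w' q.1 q.2.succ - w' q.1 q.2.succ = 0
      rw [← hw1, ← heq, sub_eq_zero]
      congr 1
      apply Subtype.ext
      exact hg _ _
    rw [hF.span] at h1
    have h2 : g • u - u = 0 := h1 (Submodule.mem_top (x := u))
    exact sub_eq_zero.mp h2
  · -- fix0
    obtain ⟨j, hj⟩ := hF.fix0 t ht i
    exact ⟨j, hact _ _ _ _ _ hj⟩
  · -- trans
    obtain ⟨t, ht, hj⟩ := hF.trans i j
    exact ⟨t, ht, hact _ _ _ _ _ hj⟩
  · -- gen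
    rw [eq_top_iff, ← hF.gen]
    refine sup_le_sup_right ?_ _
    rw [closure_le]
    rintro e ⟨c, χ, he⟩
    obtain ⟨g, rfl, -, -⟩ := hall e c χ he
    exact subset_closure (mem_DD_conj hd.mem g)
  · -- conj
    obtain ⟨c, ψ, he⟩ := he
    obtain ⟨c', ψ', hf⟩ := hf
    obtain ⟨g, rfl, -, -⟩ := hdown e c ψ he
    obtain ⟨g', rfl, -, -⟩ := hdown f c' ψ' hf
    refine ⟨g' * g⁻¹, ?_⟩
    group
  · -- eq_of_ctr
    obtain ⟨g, rfl, h1, -⟩ := hdown e c χ he
    obtain ⟨g', rfl, h2, -⟩ := hdown f c χ' hf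
    obtain ⟨ψ1, h3, -⟩ := hconj g
    obtain ⟨ψ2, h4, -⟩ := hconj g'
    have h5 : (⟨g • a, smul_mem_cen g a⟩ : cen P a) = ⟨g' • a, smul_mem_cen g' a⟩ :=
      Subtype.ext (h1.symm.trans h2)
    rw [← h5] at h4
    exact hF.eq_of_ctr _ _ _ _ _ h3 h4

/-- **Theorem TV** for arbitrary faithful modules -/
theorem main [Finite P] [Finite V] (hG : Gen P V T M) :
    ∃ (k m : ℕ) (w : Fin k → Fin (2 ^ m + 1) → V), SymMod P V T k m w := by
  obtain ⟨d, a, φ, hd⟩ := hG.tv
  let act1 : DistribMulAction P (cen P a) := subAct (inv_cen a)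
  let C : Submodule (ZMod 2) (cen P a) := (fixS V (normalClosure {d})).comap (cen P a).subtype
  have hC : Inv P C := fun g v hv => inv_fixS (V := V) normalClosure_normal g (v : V) hv
  let act2 : DistribMulAction P (cen P a ⧸ C) := quoAct hC
  have hp : Function.Surjective C.mkQ := C.mkQ_surjective
  have heq : ∀ (g : P) (v : cen P a), C.mkQ ⟨g • (v : V), inv_cen a g v v.2⟩ = g • C.mkQ v := fun g v => rfl
  have hker : ∀ v : cen P a, C.mkQ v = 0 ↔ (v : V) ∈ fixS V (normalClosure {d}) := by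
    intro v
    rw [Submodule.mkQ_apply, Submodule.Quotient.mk_eq_zero]
    exact Iff.rfl
  have : Finite (cen P a ⧸ C) := Finite.of_surjective _ hp
  obtain ⟨k, m, w, hw⟩ := (hyp_sect hG hd hp heq hker).main
  obtain ⟨w', hw'⟩ := lift_frame hG hd hp heq hker hw
  exact ⟨k, m, w', hw'⟩

end Gen

end Cfsg.Agent.Omega.Transv

end

section


/-!
# The FF theorem for minimal parabolics, `q = 2`: coordinates on the sum of the even-subset modules

`SymMod P V T k m w` (`Omega.Transv.General`): `V = W ⊕ D`, `W` is spanned by the points `w i x` (`i ∈ Fin k`,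
`x ∈ Fin (2 ^ m + 1)`), `D` is the centraliser of the transvections.

* `crd h v i : Fin (2 ^ m + 1) → ZMod 2`: the `i`-th coordinate of `v`, an even subset of the points of the summand
  `i`; the point `w i x` has the coordinate `1 + δ_x`;
* `crd_even`, `crd_surj`, `crd_eq_zero_iff`;
* `Acts w g σ τ` : `g` permutes the points, `crd_smul`, `Acts.of_crd` : the same for the coordinates;
* `exists_lift`, `fix_D` : all the permutations of the points of the summands are induced by elements which centralise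
  `D`.
-/

set_option autoImplicit false

namespace Cfsg.Agent.Omega.FFBr.Two

open Subgroup Cfsg.Agent.Omega.Transv

variable {P : Type*} [Group P] {V : Type*} [AddCommGroup V] [Module (ZMod 2) V] [DistribMulAction P V]
  {T : Sylow 2 P} {k m : ℕ} {w : Fin k → Fin (2 ^ m + 1) → V}

/-- `g` permutes the points by `(σ, τ)` -/
def Acts (w : Fin k → Fin (2 ^ m + 1) → V) (g : P) (σ : Equiv.Perm (Fin k))
    (τ : Fin k → Equiv.Perm (Fin (2 ^ m + 1))) : Prop :=
  ∀ i x, g • w i x = w (σ i) (τ i x)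

/-- the span of the points -/
abbrev spn (w : Fin k → Fin (2 ^ m + 1) → V) : Submodule (ZMod 2) V :=
  Submodule.span (ZMod 2) (Set.range fun p : Fin k × Fin (2 ^ m) => w p.1 p.2.succ)

theorem two_pow_cast (hm : 0 < m) : ((2 ^ m : ℕ) : ZMod 2) = 0 := by
  obtain ⟨n, rfl⟩ : ∃ n, m = n + 1 := ⟨m - 1, by omega⟩
  rw [pow_succ, Nat.cast_mul]
  have : ((2 : ℕ) : ZMod 2) = 0 := by decide
  rw [this, mul_zero]

theorem sum_one (hm : 0 < m) : ∑ _x : Fin (2 ^ m), (1 : ZMod 2) = 0 := by
  rw [Finset.sum_const, Finset.card_univ, Fintype.card_fin, nsmul_eq_mul, mul_one, two_pow_cast hm]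

theorem sum_one' (hm : 0 < m) : ∑ _x : Fin (2 ^ m + 1), (1 : ZMod 2) = 1 := by
  rw [Fin.sum_univ_succ, sum_one hm, add_zero]

variable (h : SymMod P V T k m w)

section crd

/-- the basis of the span -/
noncomputable def bas : Module.Basis (Fin k × Fin (2 ^ m)) (ZMod 2) (spn w) := Module.Basis.span h.indep

theorem bas_apply (p : Fin k × Fin (2 ^ m)) : (bas h p : V) = w p.1 p.2.succ := by
  rw [bas]
  exact congrArg Subtype.val (Module.Basis.span_apply h.indep p)

/-- the projection on the span of the points -/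
noncomputable def prj : V →ₗ[ZMod 2] (spn w) :=
  (spn w).projectionOnto (fixS V (closure (DD P V))) h.compl

theorem prj_w (p : Fin k × Fin (2 ^ m)) : prj h (w p.1 p.2.succ) = bas h p := by
  rw [← bas_apply h p]
  exact Submodule.projectionOnto_apply_left h.compl (bas h p)

theorem prj_eq_zero_iff {v : V} : prj h v = 0 ↔ v ∈ fixS V (closure (DD P V)) := by
  rw [prj, Submodule.projectionOnto_apply_eq_zero_iff]

/-- the coordinates with respect to the basis -/
noncomputable def cof (p : Fin k × Fin (2 ^ m)) : V →ₗ[ZMod 2] ZMod 2 := (bas h).coord p ∘ₗ prj h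

theorem cof_w (p p' : Fin k × Fin (2 ^ m)) : cof h p' (w p.1 p.2.succ) = if p = p' then 1 else 0 := by
  rw [cof, LinearMap.comp_apply, prj_w, Module.Basis.coord_apply, Module.Basis.repr_self, Finsupp.single_apply]

/-- the coordinates: even subsets; the point `w i x` is `1 + δ_x` -/
noncomputable def crd : V →ₗ[ZMod 2] (Fin k → Fin (2 ^ m + 1) → ZMod 2) :=
  LinearMap.pi fun i => LinearMap.pi fun y =>
    (∑ x, cof h (i, x)) + (Fin.cases 0 (fun x => cof h (i, x)) y : V →ₗ[ZMod 2] ZMod 2)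

theorem crd_zero (v : V) (i : Fin k) : crd h v i 0 = ∑ x, cof h (i, x) v := by
  simp [crd, LinearMap.sum_apply]

theorem crd_succ (v : V) (i : Fin k) (x : Fin (2 ^ m)) :
    crd h v i x.succ = (∑ x, cof h (i, x) v) + cof h (i, x) v := by
  simp [crd, LinearMap.sum_apply]

theorem crd_w_succ (i : Fin k) (y : Fin (2 ^ m)) (j : Fin k) (x : Fin (2 ^ m + 1)) :
    crd h (w i y.succ) j x = if i = j then 1 + (if y.succ = x then 1 else 0) else 0 := by
  have h1 : ∀ j' x', cof h (j', x') (w i y.succ) = if i = j' ∧ y = x' then 1 else 0 := by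
    intro j' x'
    have := cof_w h (i, y) (j', x')
    rw [this]
    congr 1
    rw [Prod.mk.injEq]
  have h2 : ∑ x', cof h (j, x') (w i y.succ) = if i = j then 1 else 0 := by
    rw [Finset.sum_congr rfl fun x' _ => h1 j x']
    by_cases hij : i = j
    · simp [hij]
    · simp [hij]
  rcases Fin.eq_zero_or_eq_succ x with rfl | ⟨x', rfl⟩
  · rw [crd_zero, h2]
    by_cases hij : i = j
    · simp [hij, Fin.succ_ne_zero]
    · simp [hij]
  · rw [crd_succ, h2, h1]
    by_cases hij : i = j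
    · simp [hij, Fin.succ_inj]
    · simp [hij]

include h in
theorem w_zero (i : Fin k) : w i 0 = ∑ x : Fin (2 ^ m), w i x.succ := by
  have h1 := h.sum_zero i
  rw [Fin.sum_univ_succ] at h1
  exact eq_of_add h1

theorem crd_w (i : Fin k) (y : Fin (2 ^ m + 1)) (j : Fin k) (x : Fin (2 ^ m + 1)) :
    crd h (w i y) j x = if i = j then 1 + (if y = x then 1 else 0) else 0 := by
  rcases Fin.eq_zero_or_eq_succ y with rfl | ⟨y', rfl⟩
  · rw [w_zero h i, map_sum, Finset.sum_apply, Finset.sum_apply,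
      Finset.sum_congr rfl fun y' _ => crd_w_succ h i y' j x]
    by_cases hij : i = j
    · simp only [hij, if_true]
      rw [Finset.sum_add_distrib, sum_one h.m_pos, zero_add]
      rcases Fin.eq_zero_or_eq_succ x with rfl | ⟨x', rfl⟩
      · simp [Fin.succ_ne_zero, one_add_one]
      · have h3 : ¬ (0 : Fin (2 ^ m + 1)) = x'.succ := (Fin.succ_ne_zero x').symm
        simp [Fin.succ_inj, h3]
    · simp [hij]
  · exact crd_w_succ h i y' j x

theorem crd_eq_zero_iff {v : V} : crd h v = 0 ↔ v ∈ fixS V (closure (DD P V)) := by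
  rw [← prj_eq_zero_iff h]
  constructor
  · intro h1
    have h2 : ∀ p, cof h p v = 0 := by
      rintro ⟨i, x⟩
      have h3 := crd_zero h v i
      have h4 := crd_succ h v i x
      rw [h1] at h3 h4
      rw [← h3] at h4
      simpa using h4.symm
    apply (bas h).repr.injective
    ext p
    rw [map_zero]
    exact h2 p
  · intro h1
    have h2 : ∀ p, cof h p v = 0 := by
      intro p
      rw [cof, LinearMap.comp_apply, h1, map_zero]
    funext i x
    rcases Fin.eq_zero_or_eq_succ x with rfl | ⟨x', rfl⟩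
    · rw [crd_zero]
      simp [h2]
    · rw [crd_succ]
      simp [h2]

include h in
/-- linear maps are determined by their values on the points and on the centraliser of the transvections -/
theorem ext_of {M : Type*} [AddCommGroup M] [Module (ZMod 2) M] {f g : V →ₗ[ZMod 2] M}
    (h1 : ∀ i x, f (w i x) = g (w i x)) (h2 : ∀ v ∈ fixS V (closure (DD P V)), f v = g v) : f = g := by
  have h3 : spn w ⊔ fixS V (closure (DD P V)) ≤ LinearMap.eqLocus f g := by
    refine sup_le ?_ fun v hv => h2 v hv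
    rw [spn, Submodule.span_le]
    rintro _ ⟨p, rfl⟩
    exact h1 _ _
  rw [h.compl.sup_eq_top] at h3
  ext v
  exact h3 (Submodule.mem_top (x := v))

theorem crd_even (v : V) (i : Fin k) : ∑ x, crd h v i x = 0 := by
  let f : V →ₗ[ZMod 2] ZMod 2 := ∑ x, (LinearMap.proj x ∘ₗ LinearMap.proj i ∘ₗ crd h)
  have h0 : f = 0 := by
    refine ext_of h (fun j y => ?_) fun v hv => ?_
    · simp only [f, LinearMap.sum_apply, LinearMap.comp_apply, LinearMap.proj_apply, LinearMap.zero_apply]
      rw [Finset.sum_congr rfl fun x _ => crd_w h j y i x]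
      by_cases hij : j = i
      · simp only [hij, if_true]
        rw [Finset.sum_add_distrib, sum_one' h.m_pos]
        simp [one_add_one]
      · simp [hij]
    · simp only [f, LinearMap.sum_apply, LinearMap.comp_apply, LinearMap.proj_apply, LinearMap.zero_apply]
      rw [(crd_eq_zero_iff h).2 hv]
      simp
  have h1 := LinearMap.congr_fun h0 v
  simpa only [f, LinearMap.sum_apply, LinearMap.comp_apply, LinearMap.proj_apply, LinearMap.zero_apply] using h1

theorem crd_surj (y : Fin k → Fin (2 ^ m + 1) → ZMod 2) (hy : ∀ i, ∑ x, y i x = 0) : ∃ v : V, crd h v = y := by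
  refine ⟨∑ i, ∑ z, y i z • w i z, ?_⟩
  funext j x
  rw [map_sum, Finset.sum_apply, Finset.sum_apply, Finset.sum_eq_single j]
  · rw [map_sum, Finset.sum_apply, Finset.sum_apply]
    have h1 : ∀ z, crd h (y j z • w j z) j x = y j z + (if z = x then y j z else 0) := by
      intro z
      rw [map_smul, Pi.smul_apply, Pi.smul_apply, crd_w]
      by_cases hz : z = x
      · simp [hz, mul_add]
      · simp [hz]
    rw [Finset.sum_congr rfl fun z _ => h1 z, Finset.sum_add_distrib, hy j, zero_add]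
    simp
  · intro i _ hij
    rw [map_sum, Finset.sum_apply, Finset.sum_apply]
    refine Finset.sum_eq_zero fun z _ => ?_
    rw [map_smul, Pi.smul_apply, Pi.smul_apply, crd_w]
    simp [hij]
  · intro hj
    exact absurd (Finset.mem_univ j) hj

include h in
theorem w_inj {i j : Fin k} {x y : Fin (2 ^ m + 1)} (hxy : w i x = w j y) : i = j ∧ x = y := by
  have h1 : ∀ l z, crd h (w i x) l z = crd h (w j y) l z := fun l z => by rw [hxy]
  have hx : ∃ z : Fin (2 ^ m + 1), x ≠ z ∧ y ≠ z := by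
    have h3 : 3 ≤ 2 ^ m + 1 := by
      obtain ⟨n, hn⟩ : ∃ n, m = n + 1 := ⟨m - 1, by have := h.m_pos; omega⟩
      rw [hn, pow_succ]
      have := Nat.one_le_two_pow (n := n)
      omega
    have h4 : ({x, y} : Finset (Fin (2 ^ m + 1))).card < (Finset.univ : Finset (Fin (2 ^ m + 1))).card := by
      rw [Finset.card_univ, Fintype.card_fin]
      exact lt_of_le_of_lt Finset.card_le_two (by omega)
    obtain ⟨z, -, hz⟩ := Finset.exists_mem_notMem_of_card_lt_card h4
    refine ⟨z, ?_, ?_⟩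
    · rintro rfl
      simp at hz
    · rintro rfl
      simp at hz
  obtain ⟨z, hz1, hz2⟩ := hx
  have hij : i = j := by
    by_contra hij
    have h2 := h1 i z
    rw [crd_w, crd_w, if_pos rfl, if_neg hz1, if_neg (Ne.symm hij), add_zero] at h2
    exact one_ne h2
  subst hij
  refine ⟨rfl, ?_⟩
  by_contra hne
  have h2 := h1 i x
  rw [crd_w, crd_w, if_pos rfl, if_pos rfl, if_pos rfl, if_neg (Ne.symm hne), one_add_one, add_zero] at h2
  exact one_ne h2.symm

end crd

/-! ### The action -/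

section act

theorem closure_normal : (closure (DD P V)).Normal := by
  refine ⟨fun n hn g => ?_⟩
  have h1 : (closure (DD P V)).map (MulAut.conj g).toMonoidHom ≤ closure (DD P V) := by
    rw [MonoidHom.map_closure, closure_le]
    rintro _ ⟨y, hy, rfl⟩
    exact subset_closure (mem_DD_conj hy g)
  exact h1 ⟨n, hn, rfl⟩

theorem smul_mem_D {v : V} (hv : v ∈ fixS V (closure (DD P V))) (g : P) :
    g • v ∈ fixS V (closure (DD P V)) := inv_fixS closure_normal g v hv

theorem crd_smul {g : P} {σ : Equiv.Perm (Fin k)} {τ : Fin k → Equiv.Perm (Fin (2 ^ m + 1))}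
    (hg : Acts w g σ τ) (v : V) (i : Fin k) (x : Fin (2 ^ m + 1)) :
    crd h (g • v) (σ i) (τ i x) = crd h v i x := by
  have h1 : (LinearMap.proj (τ i x) ∘ₗ LinearMap.proj (σ i) ∘ₗ crd h ∘ₗ (lin g : V →ₗ[ZMod 2] V) :
      V →ₗ[ZMod 2] ZMod 2) = LinearMap.proj x ∘ₗ LinearMap.proj i ∘ₗ crd h := by
    refine ext_of h (fun j y => ?_) fun v hv => ?_
    · simp only [LinearMap.comp_apply, LinearMap.proj_apply, lin_apply]
      rw [hg j y, crd_w, crd_w]
      by_cases hij : j = i
      · subst hij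
        simp
      · have h2 : ¬ σ j = σ i := fun h0 => hij (σ.injective h0)
        rw [if_neg h2, if_neg hij]
    · simp only [LinearMap.comp_apply, LinearMap.proj_apply, lin_apply]
      rw [(crd_eq_zero_iff h).2 hv, (crd_eq_zero_iff h).2 (smul_mem_D hv g)]
      simp
  exact LinearMap.congr_fun h1 v

theorem exists_ne (_hm : 0 < m) (x : Fin (2 ^ m + 1)) : ∃ y, y ≠ x := by
  have h4 : ({x} : Finset (Fin (2 ^ m + 1))).card < (Finset.univ : Finset (Fin (2 ^ m + 1))).card := by
    rw [Finset.card_univ, Fintype.card_fin, Finset.card_singleton]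
    have := Nat.one_le_two_pow (n := m)
    omega
  obtain ⟨z, -, hz⟩ := Finset.exists_mem_notMem_of_card_lt_card h4
  exact ⟨z, fun h0 => hz (Finset.mem_singleton.2 h0)⟩

theorem Acts.of_crd {g : P} {σ : Equiv.Perm (Fin k)} {τ : Fin k → Equiv.Perm (Fin (2 ^ m + 1))}
    (hg : ∀ v i x, crd h (g • v) (σ i) (τ i x) = crd h v i x) : Acts w g σ τ := by
  obtain ⟨σ', τ', h1⟩ := h.perm g
  have h2 : ∀ j y i x, crd h (w (σ' j) (τ' j y)) (σ i) (τ i x) = crd h (w j y) i x := by
    intro j y i x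
    rw [← h1 j y]
    exact hg _ _ _
  have h3 : ∀ j, σ' j = σ j := by
    intro j
    obtain ⟨x, hx⟩ := exists_ne h.m_pos (0 : Fin (2 ^ m + 1))
    have h4 := h2 j 0 j x
    rw [crd_w, crd_w, if_pos rfl, if_neg (Ne.symm hx), add_zero] at h4
    by_contra hne
    rw [if_neg hne] at h4
    exact one_ne h4.symm
  intro i x
  rw [h1 i x, h3 i]
  congr 1
  by_contra hne
  have h4 := h2 i x i x
  rw [crd_w, crd_w, if_pos rfl, if_pos rfl, one_add_one, if_pos (h3 i), if_neg hne, add_zero] at h4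
  exact one_ne h4

include h in
theorem Acts.unique {g : P} {σ σ' : Equiv.Perm (Fin k)} {τ τ' : Fin k → Equiv.Perm (Fin (2 ^ m + 1))}
    (hg : Acts w g σ τ) (hg' : Acts w g σ' τ') : σ = σ' ∧ τ = τ' := by
  have h1 : ∀ i x, σ i = σ' i ∧ τ i x = τ' i x := fun i x => w_inj h ((hg i x).symm.trans (hg' i x))
  exact ⟨Equiv.ext fun i => (h1 i 0).1, funext fun i => Equiv.ext fun x => (h1 i x).2⟩

omit [Module (ZMod 2) V] in
theorem Acts.mul {g g' : P} {σ σ' : Equiv.Perm (Fin k)} {τ τ' : Fin k → Equiv.Perm (Fin (2 ^ m + 1))}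
    (hg : Acts w g σ τ) (hg' : Acts w g' σ' τ') : Acts w (g * g') (σ * σ') fun i => τ (σ' i) * τ' i := by
  intro i x
  rw [mul_smul, hg' i x, hg]
  rfl

omit [Module (ZMod 2) V] in
theorem Acts.inv {g : P} {σ : Equiv.Perm (Fin k)} {τ : Fin k → Equiv.Perm (Fin (2 ^ m + 1))}
    (hg : Acts w g σ τ) : Acts w g⁻¹ σ⁻¹ fun i => (τ (σ⁻¹ i))⁻¹ := by
  intro i x
  rw [inv_smul_eq_iff, hg]
  simp

omit [Module (ZMod 2) V] in
theorem Acts.one : Acts w (1 : P) 1 1 := fun _ _ => one_smul _ _

include h in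
theorem Acts.eq {g g' : P} {σ : Equiv.Perm (Fin k)} {τ : Fin k → Equiv.Perm (Fin (2 ^ m + 1))}
    (hg : Acts w g σ τ) (hg' : Acts w g' σ τ) : g = g' := by
  have h1 : g'⁻¹ * g = 1 := by
    refine h.faithful _ fun i x => ?_
    rw [mul_smul, hg i x, ← hg' i x, inv_smul_smul]
  exact (inv_mul_eq_one.mp h1).symm

theorem fix_D {g : P} (hg : g ∈ closure (DD P V)) {v : V} (hv : v ∈ fixS V (closure (DD P V))) : g • v = v :=
  hv g hg

include h in
/-- all permutations of the points of the summands are induced by products of transvections -/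
theorem exists_lift (τ : Fin k → Equiv.Perm (Fin (2 ^ m + 1))) : ∃ g ∈ closure (DD P V), Acts w g 1 τ := by
  let K : Subgroup (Fin k → Equiv.Perm (Fin (2 ^ m + 1))) :=
    { carrier := {τ | ∃ g ∈ closure (DD P V), Acts w g 1 τ}
      one_mem' := ⟨1, one_mem _, Acts.one⟩
      mul_mem' := by
        rintro a b ⟨g, hg, h1⟩ ⟨g', hg', h2⟩
        exact ⟨g * g', mul_mem hg hg', h1.mul h2⟩
      inv_mem' := by
        rintro a ⟨g, hg, h1⟩
        exact ⟨g⁻¹, inv_mem hg, h1.inv⟩ }
  have h1 : ∀ i (s : Equiv.Perm (Fin (2 ^ m + 1))), Pi.mulSingle i s ∈ K := by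
    intro i s
    have h2 : (⊤ : Subgroup (Equiv.Perm (Fin (2 ^ m + 1)))) ≤
        K.comap (MonoidHom.mulSingle (fun _ : Fin k => Equiv.Perm (Fin (2 ^ m + 1))) i) := by
      rw [← Equiv.Perm.closure_isSwap, closure_le]
      rintro _ ⟨x, y, hxy, rfl⟩
      obtain ⟨d, χ, hd, h3⟩ := h.swap i x y hxy
      refine ⟨d, subset_closure hd.mem, fun j z => ?_⟩
      rw [(h3 j z).1]
      congr 1
      by_cases hj : j = i
      · subst hj
        simp
      · simp [hj]
    exact h2 (mem_top s)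
  exact Subgroup.pi_mem_of_mulSingle_mem _ fun i => h1 i (τ i)

end act

end Cfsg.Agent.Omega.FFBr.Two

end

section


/-!
# THEOREM BT2 (helper318, bb 13091): points with their groups

`KK x χ` is the group of all `b` centralising `x`, `ker χ / x` and `V / ker χ`.
-/

set_option autoImplicit false

namespace Cfsg.Agent.Omega.NearFF

open Subgroup Transv

variable {Y : Type*} [Group Y] {V : Type*} [AddCommGroup V] [Module (ZMod 2) V] [DistribMulAction Y V]

/-- no transvections -/
def NT (Y V : Type*) [Group Y] [AddCommGroup V] [Module (ZMod 2) V] [DistribMulAction Y V] : Prop :=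
  ∀ (g : Y) (a : V) (χ : Du V), ¬ Tv g a χ

theorem exists_fn_one {x : V} (hx : x ≠ 0) : ∃ f : Du V, f x = 1 := by
  have h1 : x ∉ (⊥ : Submodule (ZMod 2) V) := fun h => hx ((Submodule.mem_bot _).mp h)
  obtain ⟨f, hf, -⟩ := Submodule.exists_le_ker_of_notMem h1
  exact ⟨f, eq_one_of_ne hf⟩

theorem eq_one_of (hf : Faith Y V) (nt : NT Y V) {k : Y} {x : V} (hx : x ≠ 0)
    (h : ∀ u : V, k • u = u ∨ k • u = u + x) : k = 1 := by
  obtain ⟨l, hl⟩ := exists_fn_one hx
  let ψ : Du V := l.comp (lin k + LinearMap.id)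
  have hψ : ∀ u, k • u = u + ψ u • x := by
    intro u
    change k • u = u + l (k • u + u) • x
    rcases h u with h1 | h1
    · rw [h1, add_self, map_zero, zero_smul, add_zero]
    · rw [h1, Fr.cancel_right, hl, one_smul]
  by_cases h0 : ψ = 0
  · refine hf k fun u => ?_
    rw [hψ, h0]
    change u + (0 : ZMod 2) • x = u
    rw [zero_smul, add_zero]
  · exact absurd ⟨hx, h0, hψ⟩ (nt k x ψ)

/-- the group of the point `x` with the hyperplane `ker χ` -/
def KK (Y : Type*) [Group Y] [DistribMulAction Y V] (x : V) (χ : Du V) : Subgroup Y where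
  carrier := {b | b • x = x ∧ (∀ v, χ (b • v) = χ v) ∧ ∀ e, χ e = 0 → b • e = e ∨ b • e = e + x}
  one_mem' := ⟨one_smul _ _, fun v => by rw [one_smul], fun e _ => Or.inl (one_smul _ _)⟩
  mul_mem' := by
    rintro a b ⟨ha1, ha2, ha3⟩ ⟨hb1, hb2, hb3⟩
    refine ⟨by rw [mul_smul, hb1, ha1], fun v => by rw [mul_smul, ha2, hb2], fun e he => ?_⟩
    rw [mul_smul]
    rcases hb3 e he with h1 | h1
    · rw [h1]
      exact ha3 e he
    · rw [h1, smul_add, ha1]
      rcases ha3 e he with h2 | h2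
      · rw [h2]
        exact Or.inr rfl
      · rw [h2, add_add_self]
        exact Or.inl rfl
  inv_mem' := by
    rintro b ⟨h1, h2, h3⟩
    refine ⟨by rw [inv_smul_eq_iff, h1], fun v => by rw [← h2 (b⁻¹ • v), smul_inv_smul], fun e he => ?_⟩
    have h4 : χ (b⁻¹ • e) = 0 := by rw [← h2 (b⁻¹ • e), smul_inv_smul, he]
    rcases h3 _ h4 with h5 | h5
    · rw [smul_inv_smul] at h5
      exact Or.inl h5.symm
    · rw [smul_inv_smul] at h5
      right
      conv_rhs => rw [h5, add_add_self]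

theorem mem_KK {x : V} {χ : Du V} {b : Y} : b ∈ KK Y x χ ↔
    b • x = x ∧ (∀ v, χ (b • v) = χ v) ∧ ∀ e, χ e = 0 → b • e = e ∨ b • e = e + x := Iff.rfl

/-- a good point -/
structure Pnt (Y : Type*) {V : Type*} [Group Y] [AddCommGroup V] [Module (ZMod 2) V] [DistribMulAction Y V]
    (x : V) (χ : Du V) : Prop where
  ne : x ≠ 0
  nz : χ ≠ 0
  self : χ x = 0
  comm : ∀ a ∈ KK Y x χ, ∀ b ∈ KK Y x χ, a * b = b * a
  sq : ∀ b ∈ KK Y x χ, b * b = 1
  card : 4 * Nat.card (KK Y x χ) = Nat.card V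

theorem card_hyper [Finite V] {χ : Du V} (h : χ ≠ 0) : 2 * Nat.card {u : V // χ u = 1} = Nat.card V := by
  obtain ⟨v, hv⟩ := exists_one h
  let F : {u : V // χ u = 1} × ZMod 2 → V := fun p => p.1 + p.2 • v
  have hF : Function.Bijective F := by
    constructor
    · rintro ⟨⟨u, hu⟩, c⟩ ⟨⟨u', hu'⟩, c'⟩ h1
      have h1' : u + c • v = u' + c' • v := h1
      have h2 : χ (u + c • v) = χ (u' + c' • v) := by rw [h1']
      rw [map_add, map_add, map_smul, map_smul, hu, hu', hv, smul_eq_mul, smul_eq_mul, mul_one, mul_one] at h2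
      have h3 : c = c' := add_left_cancel h2
      subst h3
      have h4 : u = u' := add_right_cancel h1'
      subst h4
      rfl
    · intro u
      rcases zmod_cases (χ u) with h1 | h1
      · refine ⟨⟨⟨u + v, by rw [map_add, h1, hv, zero_add]⟩, 1⟩, ?_⟩
        change u + v + (1 : ZMod 2) • v = u
        rw [one_smul, add_add_self]
      · refine ⟨⟨⟨u, h1⟩, 0⟩, ?_⟩
        change u + (0 : ZMod 2) • v = u
        rw [zero_smul, add_zero]
  rw [← Nat.card_congr (Equiv.ofBijective F hF), Nat.card_prod, Nat.card_zmod, mul_comm]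

theorem eq_add_smul {u v x : V} {c : ZMod 2} (h : u = v + c • x) : v = u + c • x := by
  rw [h, add_add_self]

namespace Pnt

variable {x : V} {χ : Du V}

theorem inj (hf : Faith Y V) (nt : NT Y V) (h : Pnt Y x χ) {b b' : Y} (hb : b ∈ KK Y x χ) (hb' : b' ∈ KK Y x χ)
    {v : V} (hv : χ v = 1) {c : ZMod 2} (he : b • v = b' • v + c • x) : b = b' := by
  have hk : b'⁻¹ * b ∈ KK Y x χ := mul_mem (inv_mem hb') hb
  have h1 : (b'⁻¹ * b) • v = v + c • x := by
    rw [mul_smul, he, smul_add, inv_smul_smul, smul_zmod, (inv_mem hb').1]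
  have h2 : b'⁻¹ * b = 1 := by
    refine eq_one_of hf nt h.ne fun u => ?_
    rcases zmod_cases (χ u) with h3 | h3
    · exact hk.2.2 u h3
    · have h4 : χ (u + v) = 0 := by rw [map_add, h3, hv, one_add_one]
      have h5 : u = v + (u + v) := by rw [add_comm v, add_add_self]
      have h6 : (b'⁻¹ * b) • u = v + c • x + (b'⁻¹ * b) • (u + v) := by
        rw [← h1, ← smul_add, ← h5]
      have h7 : v + c • x + (u + v) = u + c • x := by
        rw [add_comm u v, Fr.cancel_mid, add_comm]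
      rcases hk.2.2 _ h4 with h8 | h8
      · rw [h8, h7] at h6
        rcases zmod_cases c with hc | hc
        · left
          rw [h6, hc, zero_smul, add_zero]
        · right
          rw [h6, hc, one_smul]
      · rw [h8, ← add_assoc, h7] at h6
        rcases zmod_cases c with hc | hc
        · right
          rw [h6, hc, zero_smul, add_zero]
        · left
          rw [h6, hc, one_smul, add_add_self]
  exact (inv_mul_eq_one.mp h2).symm

theorem free (hf : Faith Y V) (nt : NT Y V) (h : Pnt Y x χ) {b : Y} (hb : b ∈ KK Y x χ) {v : V} (hv : χ v = 1)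
    (he : b • v = v) : b = 1 :=
  h.inj hf nt hb (one_mem _) hv (c := 0) (by rw [he, one_smul, zero_smul, add_zero])

theorem hit [Finite Y] [Finite V] (hf : Faith Y V) (nt : NT Y V) (h : Pnt Y x χ) {v u : V} (hv : χ v = 1)
    (hu : χ u = 1) : ∃ b ∈ KK Y x χ, ∃ c : ZMod 2, u = b • v + c • x := by
  let F : KK Y x χ × ZMod 2 → {u : V // χ u = 1} := fun p =>
    ⟨(p.1 : Y) • v + p.2 • x, by
      rw [map_add, p.1.2.2.1, hv, map_smul (f := χ) (c := p.2), h.self, smul_zero, add_zero]⟩
  have hF : Function.Injective F := by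
    rintro ⟨⟨b, hb⟩, c⟩ ⟨⟨b', hb'⟩, c'⟩ h1
    have h1' : b • v + c • x = b' • v + c' • x := congrArg Subtype.val h1
    have h2 : b • v = b' • v + (c' + c) • x := by
      rw [add_smul, ← add_assoc, ← h1', add_add_self]
    have h3 : b = b' := h.inj hf nt hb hb' hv h2
    subst h3
    have h4 : c • x = c' • x := add_left_cancel h1'
    have h5 : c = c' := by
      rcases zmod_cases c with hc | hc
      · rcases zmod_cases c' with hc' | hc'
        · rw [hc, hc']
        · rw [hc, hc', zero_smul, one_smul] at h4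
          exact absurd h4.symm h.ne
      · rcases zmod_cases c' with hc' | hc'
        · rw [hc, hc', zero_smul, one_smul] at h4
          exact absurd h4 h.ne
        · rw [hc, hc']
    rw [h5]
  have hc : Nat.card (KK Y x χ × ZMod 2) = Nat.card {u : V // χ u = 1} := by
    have h1 := card_hyper h.nz
    have h2 := h.card
    rw [Nat.card_prod, Nat.card_zmod]
    omega
  have hb := (Nat.bijective_iff_injective_and_card F).mpr ⟨hF, hc⟩
  obtain ⟨⟨⟨b, hb⟩, c⟩, h1⟩ := hb.2 ⟨u, hu⟩
  exact ⟨b, hb, c, (congrArg Subtype.val h1).symm⟩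

theorem move [Finite Y] [Finite V] (hf : Faith Y V) (nt : NT Y V) (h : Pnt Y x χ) {e : V} (he : χ e = 0)
    (he0 : e ≠ 0) (hex : e ≠ x) : ∃ b ∈ KK Y x χ, b • e = e + x := by
  by_contra hcon
  push Not at hcon
  have hfix : ∀ b ∈ KK Y x χ, b • e = e := fun b hb => (hb.2.2 e he).resolve_right (hcon b hb)
  obtain ⟨v, hv⟩ := exists_one h.nz
  obtain ⟨b0, hb0, c, h1⟩ := h.hit hf nt hv (u := v + e) (by rw [map_add, hv, he, add_zero])
  have h1' := eq_add_smul h1
  have h2 : ∀ e', χ e' = 0 → b0 • e' = e' := by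
    intro e' he'
    obtain ⟨b1, hb1, c1, h3⟩ := h.hit hf nt hv (u := v + e') (by rw [map_add, hv, he', add_zero])
    have h3' := eq_add_smul h3
    have h4 : b0 • (b1 • v) = b1 • (b0 • v) := by rw [← mul_smul, ← mul_smul, h.comm b0 hb0 b1 hb1]
    rw [h1', h3', smul_add, smul_add, smul_add, smul_add, smul_zmod, smul_zmod, hb0.1, hb1.1, hfix b1 hb1, h1',
      h3'] at h4
    have h5 : v + e + c • x + (b0 • e' + c1 • x) = v + e + c • x + (e' + c1 • x) := by
      have h6 : v + e + c • x + (b0 • e' + c1 • x) = v + e + c • x + b0 • e' + c1 • x := by abel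
      have h7 : v + e + c • x + (e' + c1 • x) = v + e' + c1 • x + e + c • x := by abel
      rw [h6, h7]
      exact h4
    exact add_right_cancel (add_left_cancel h5)
  refine nt b0 (e + c • x) χ ⟨?_, h.nz, fun u => ?_⟩
  · intro h3
    rcases zmod_cases c with hc | hc
    · rw [hc, zero_smul, add_zero] at h3
      exact he0 h3
    · rw [hc, one_smul] at h3
      exact hex (eq_of_add h3)
  · rcases zmod_cases (χ u) with h3 | h3
    · rw [h2 u h3, h3, zero_smul, add_zero]
    · have h4 : χ (u + v) = 0 := by rw [map_add, h3, hv, one_add_one]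
      have h5 : u = v + (u + v) := by rw [add_comm v, add_add_self]
      have h6 : b0 • u = b0 • v + (u + v) := by
        rw [← h2 _ h4, ← smul_add, ← h5]
      rw [h6, h1', h3, one_smul]
      have h7 : v + e + c • x + (u + v) = u + (e + c • x) + (v + v) := by abel
      rw [h7, add_self, add_zero]

end Pnt

end Cfsg.Agent.Omega.NearFF

end
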